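import Groth.Agent.Models.H58.NodalGlueGeo
import Groth.Agent.Pi1.H408.FracRes

/-!
# A finite birational morphism onto a curve is injective over regular points

`ν : C' ⟶ C` finite, `C'` smooth over an algebraically closed field, iso over a dense open `U` with dense preimage,
`dim C ≤ 1`. Over a point `y` whose local ring is a regular local ring there is at most one point.
-/

set_option autoImplicit false
universe u v
open CategoryTheory CategoryTheory.Limits AlgebraicGeometry TopologicalSpace IsLocalRing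

namespace K335.RegInj

open Groth.Agent

/-- The algebraic core. -/
theorem eq_of_normal {A₀ B₀ : Type u} {Ap K : Type v} [CommRing A₀] [CommRing B₀] [Algebra A₀ B₀]
    [Algebra.IsIntegral A₀ B₀] [CommRing Ap] [IsDomain Ap] [IsIntegrallyClosed Ap] [Algebra A₀ Ap]
    (hloc : ∀ z : Ap, ∃ a s : A₀, IsUnit (algebraMap A₀ Ap s) ∧ z * algebraMap A₀ Ap s = algebraMap A₀ Ap a)
    [Field K] [Algebra Ap K] [IsFractionRing Ap K] (θ : B₀ →+* K)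
    (hθ : ∀ a, θ (algebraMap A₀ B₀ a) = algebraMap Ap K (algebraMap A₀ Ap a))
    (q₁ q₂ : Ideal B₀) [q₁.IsPrime] [q₂.IsPrime] (h₂ : ∀ b, θ b = 0 → b ∈ q₂)
    (h₁ : ∀ b, θ b = 0 → b ∈ q₁)
    (hq₁ : ∀ s, algebraMap A₀ B₀ s ∈ q₁ ↔ ¬ IsUnit (algebraMap A₀ Ap s))
    (hq₂ : ∀ s, algebraMap A₀ B₀ s ∈ q₂ ↔ ¬ IsUnit (algebraMap A₀ Ap s)) : q₁ ≤ q₂ := by
  intro b hb
  -- `θ b` is integral over `Ap`
  have hint : IsIntegral Ap (θ b) := by
    obtain ⟨P, hP, hPb⟩ := Algebra.IsIntegral.isIntegral (R := A₀) b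
    refine ⟨P.map (algebraMap A₀ Ap), hP.map _, ?_⟩
    rw [Polynomial.eval₂_map]
    have h3 : (algebraMap Ap K).comp (algebraMap A₀ Ap) = θ.comp (algebraMap A₀ B₀) := by
      ext a
      exact (hθ a).symm
    rw [h3, ← Polynomial.hom_eval₂, hPb, map_zero]
  obtain ⟨z, hz⟩ := IsIntegrallyClosed.isIntegral_iff.mp hint
  obtain ⟨a, s, hs, hzs⟩ := hloc z
  have h4 : θ (algebraMap A₀ B₀ s * b - algebraMap A₀ B₀ a) = 0 := by
    rw [map_sub, map_mul, hθ, hθ, ← hz, ← hzs, map_mul, mul_comm, sub_self]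
  have ha : algebraMap A₀ B₀ a ∈ q₁ := by
    have h5 := h₁ _ h4
    have h6 : algebraMap A₀ B₀ s * b ∈ q₁ := q₁.mul_mem_left _ hb
    have := q₁.sub_mem h6 h5
    rwa [sub_sub_cancel] at this
  have ha2 : algebraMap A₀ B₀ a ∈ q₂ := (hq₂ a).mpr ((hq₁ a).mp ha)
  have h7 : algebraMap A₀ B₀ s * b ∈ q₂ := by
    have := q₂.add_mem (h₂ _ h4) ha2
    rwa [sub_add_cancel] at this
  rcases (inferInstance : q₂.IsPrime).mem_or_mem h7 with h8 | h8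
  · exact absurd hs ((hq₂ s).mp h8)
  · exact h8

/-- A proper generization of a point whose local ring is a discrete valuation ring is unique. -/
theorem generization_unique {X : Scheme.{u}} {x ξ ξ' : X} (h : ξ ⤳ x) (hne : ξ ≠ x) (h' : ξ' ⤳ x) (hne' : ξ' ≠ x)
    [IsDomain (X.presheaf.stalk x)] (hx : IsDiscreteValuationRing (X.presheaf.stalk x)) : ξ = ξ' := by
  have key : ∀ {ζ : X} (h : ζ ⤳ x), ζ ≠ x → RingHom.ker (Cyc.specMap x ζ h) = ⊥ := by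
    intro ζ h hne
    by_contra hb
    have hm : (RingHom.ker (Cyc.specMap x ζ h)).IsMaximal :=
      Ideal.IsPrime.isMaximal (inferInstance : (RingHom.ker (Cyc.specMap x ζ h)).IsPrime) hb
    exact Pi1.H408.FracRes.ker_specMap_ne h hne (IsLocalRing.eq_maximalIdeal hm)
  have h1 : Groth.Agent.CycB.LocQuot.primeOf h = Groth.Agent.CycB.LocQuot.primeOf h' := by
    apply PrimeSpectrum.ext
    rw [Groth.Agent.CycB.LocQuot.primeOf_asIdeal, Groth.Agent.CycB.LocQuot.primeOf_asIdeal, key h hne,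
      key h' hne']
  have h2 : ∀ {ζ : X} (h : ζ ⤳ x), X.fromSpecStalk x (Groth.Agent.CycB.LocQuot.primeOf h) = ζ := by
    intro ζ h
    have h3 := congr($(Scheme.SpecMap_stalkSpecializes_fromSpecStalk h) (closedPoint (X.presheaf.stalk ζ)))
    have h4 := Scheme.Hom.comp_apply (Spec.map (X.presheaf.stalkSpecializes h)) (X.fromSpecStalk x)
      (closedPoint (X.presheaf.stalk ζ))
    exact (h4.symm.trans h3).trans Scheme.fromSpecStalk_closedPoint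
  rw [← h2 h, h1, h2 h']

theorem injective_over {C C' : Scheme.{u}} (ν : C' ⟶ C) (U : C.Opens) [IsIso (ν ∣_ U)] {x x' : C'}
    (hx : ν x ∈ U) (h : ν x = ν x') : x = x' := by
  have hx' : ν x' ∈ U := h ▸ hx
  have key : ∀ z : (ν ⁻¹ᵁ U : C'.Opens).toScheme, U.ι ((ν ∣_ U) z) = ν ((ν ⁻¹ᵁ U).ι z) := fun z =>
    congr($(morphismRestrict_ι ν U) z)
  let y : (ν ⁻¹ᵁ U : C'.Opens).toScheme := (⟨x, hx⟩ : (ν ⁻¹ᵁ U : C'.Opens))
  let y' : (ν ⁻¹ᵁ U : C'.Opens).toScheme := (⟨x', hx'⟩ : (ν ⁻¹ᵁ U : C'.Opens))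
  have h1 : (ν ∣_ U) y = (ν ∣_ U) y' := by
    apply U.ι.isOpenEmbedding.injective
    exact (key y).trans (Eq.trans h (key y').symm)
  have h2 : y = y' := (ν ∣_ U).isOpenEmbedding.injective h1
  exact congrArg (fun z : (ν ⁻¹ᵁ U : C'.Opens).toScheme => (ν ⁻¹ᵁ U).ι z) h2

theorem isIso_stalkMap {C C' : Scheme.{u}} (ν : C' ⟶ C) (U : C.Opens) [IsIso (ν ∣_ U)] (x : C')
    (hx : ν x ∈ U) : IsIso (ν.stalkMap x) := by
  have h1 : ∀ z : (ν ⁻¹ᵁ U : C'.Opens).toScheme, IsIso ((ν ∣_ U).stalkMap z) := fun z => inferInstance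
  exact ((MorphismProperty.isomorphisms CommRingCat).arrow_mk_iso_iff
    (morphismRestrictStalkMap ν U ⟨x, hx⟩)).mp (h1 _)

theorem isIso_residueFieldMap {C C' : Scheme.{u}} (ν : C' ⟶ C) (x : C') [IsIso (ν.stalkMap x)] :
    IsIso (ν.residueFieldMap x) :=
  (IsLocalRing.ResidueField.mapEquiv
    (asIso (ν.stalkMap x)).commRingCatIsoToRingEquiv).toCommRingCatIso.isIso_hom

/-- Over a regular point there is at most one point. -/
theorem eq_of_regular {k : Type u} [Field k] [IsAlgClosed k] {C C' : Scheme.{u}}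
    (f : C ⟶ Spec (CommRingCat.of k)) (ν : C' ⟶ C) [LocallyOfFiniteType f] [QuasiCompact f]
    [IsFinite ν] [Smooth (ν ≫ f)] (hdim : topologicalKrullDim C ≤ 1) (U : C.Opens) (hU : Dense (U : Set C))
    [IsIso (ν ∣_ U)] (hU' : Dense ((ν ⁻¹ᵁ U : C'.Opens) : Set C')) (x₁ x₂ : C') (hxx : ν x₁ = ν x₂)
    (hreg : IsRegularLocalRing (C.presheaf.stalk (ν x₁))) : x₁ = x₂ := by
  by_cases hyU : ν x₁ ∈ U
  · exact injective_over ν U hyU hxx
  have hN : IsNoetherian C := Models.H58.NodalGlueGeo.isNoetherian f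
  have hN' : IsNoetherian C' := Models.H58.NodalGlueGeo.isNoetherian (ν ≫ f)
  have hdom : IsDomain (C.presheaf.stalk (ν x₁)) := CalgA.RegBasic.isDomain _
  have h1 := Models.H58.NodalGlueGeo.one_le_ringKrullDim_stalk U hU (ν x₁) hyU
  have h2 : ringKrullDim (C.presheaf.stalk (ν x₁)) ≤ 1 :=
    (CurvesB.DimPts.ringKrullDim_stalk_le (ν x₁)).trans hdim
  have hdvr : IsDiscreteValuationRing (C.presheaf.stalk (ν x₁)) :=
    VarietyA.SmoothReg.isDiscreteValuationRing_of_isRegularLocalRing _ (le_antisymm h2 h1)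
  obtain ⟨ξ₁, hξ₁U, hξ₁⟩ := EtpbcA.CharPDim.exists_specializes ((ν ⁻¹ᵁ U : C'.Opens) : Set C') (ν ⁻¹ᵁ U).2 hU' x₁
  obtain ⟨ξ₂, hξ₂U, hξ₂⟩ := EtpbcA.CharPDim.exists_specializes ((ν ⁻¹ᵁ U : C'.Opens) : Set C') (ν ⁻¹ᵁ U).2 hU' x₂
  have hs₁ : ν ξ₁ ⤳ ν x₁ := hξ₁.map ν.continuous
  have hs₂ : ν ξ₂ ⤳ ν x₁ := by rw [hxx]; exact hξ₂.map ν.continuous
  have hn₁ : ν ξ₁ ≠ ν x₁ := fun h => hyU (h ▸ hξ₁U)
  have hn₂ : ν ξ₂ ≠ ν x₁ := fun h => hyU (h ▸ hξ₂U)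
  have hξν : ν ξ₁ = ν ξ₂ := generization_unique hs₁ hn₁ hs₂ hn₂ hdvr
  have hξ : ξ₁ = ξ₂ := injective_over ν U hξ₁U hξν
  subst hξ
  have hst := isIso_stalkMap ν U ξ₁ hξ₁U
  have hres := isIso_residueFieldMap ν ξ₁
  obtain ⟨V, hV, hyV, -⟩ := exists_isAffineOpen_mem_and_subset (X := C) (x := ν x₁) (U := ⊤) trivial
  have hW : IsAffineOpen (ν ⁻¹ᵁ V) := hV.preimage ν
  have hηV : ν ξ₁ ∈ V := hs₁.mem_open V.2 hyV
  have hyV' : ν x₂ ∈ V := hxx ▸ hyV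
  let _ : Algebra Γ(C, V) Γ(C', ν ⁻¹ᵁ V) := (ν.app V).hom.toAlgebra
  have _ : Module.Finite Γ(C, V) Γ(C', ν ⁻¹ᵁ V) := ν.finite_app V hV
  have _ : Algebra.IsIntegral Γ(C, V) Γ(C', ν ⁻¹ᵁ V) := inferInstance
  let _ : Algebra Γ(C, V) (C.presheaf.stalk (ν x₁)) := C.presheaf.algebra_section_stalk ⟨ν x₁, hyV⟩
  have hloc : IsLocalization.AtPrime (C.presheaf.stalk (ν x₁)) (hV.primeIdealOf ⟨ν x₁, hyV⟩).asIdeal :=
    hV.isLocalization_stalk ⟨ν x₁, hyV⟩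
  let _ : Algebra (C.presheaf.stalk (ν x₁)) (C.residueField (ν ξ₁)) :=
    ((C.residue (ν ξ₁)).hom.comp (C.presheaf.stalkSpecializes hs₁).hom).toAlgebra
  have hfrac : IsFractionRing (C.presheaf.stalk (ν x₁)) (C.residueField (ν ξ₁)) :=
    Pi1.H408.FracRes.isFractionRing_residueField hs₁ hn₁ hdvr
  let θ : Γ(C', ν ⁻¹ᵁ V) →+* C.residueField (ν ξ₁) :=
    (inv (ν.residueFieldMap ξ₁)).hom.comp (C'.evaluation (ν ⁻¹ᵁ V) ξ₁ hηV).hom
  have hθ : ∀ a, θ (algebraMap Γ(C, V) Γ(C', ν ⁻¹ᵁ V) a) =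
      algebraMap (C.presheaf.stalk (ν x₁)) (C.residueField (ν ξ₁))
        (algebraMap Γ(C, V) (C.presheaf.stalk (ν x₁)) a) := by
    intro a
    change (inv (ν.residueFieldMap ξ₁)).hom ((C'.evaluation (ν ⁻¹ᵁ V) ξ₁ hηV).hom ((ν.app V).hom a)) =
      (C.residue (ν ξ₁)).hom ((C.presheaf.stalkSpecializes hs₁).hom ((C.presheaf.germ V (ν x₁) hyV).hom a))
    have e1 : (C'.evaluation (ν ⁻¹ᵁ V) ξ₁ hηV).hom ((ν.app V).hom a) =
        (ν.residueFieldMap ξ₁).hom ((C.evaluation V (ν ξ₁) hηV).hom a) :=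
      (Scheme.evaluation_naturality_apply ν (V := V) ξ₁ hηV a).symm
    rw [e1]
    have e2 : ∀ z, (inv (ν.residueFieldMap ξ₁)).hom ((ν.residueFieldMap ξ₁).hom z) = z := by
      intro z
      have := congr($(IsIso.hom_inv_id (ν.residueFieldMap ξ₁)) z)
      exact this
    rw [e2]
    have e3 : (C.presheaf.stalkSpecializes hs₁).hom ((C.presheaf.germ V (ν x₁) hyV).hom a) =
        (C.presheaf.germ V (ν ξ₁) hηV).hom a := by
      have := congr($(TopCat.Presheaf.germ_stalkSpecializes C.presheaf hyV hs₁) a)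
      exact this
    rw [e3]
    rfl
  -- the primes
  have mem : ∀ (x : C') (hx : x ∈ ν ⁻¹ᵁ V) (b : Γ(C', ν ⁻¹ᵁ V)),
      b ∈ RingHom.ker (C'.evaluation (ν ⁻¹ᵁ V) x hx).hom ↔ x ∉ C'.basicOpen b := by
    intro x hx b
    rw [RingHom.mem_ker]
    exact C'.evaluation_eq_zero_iff_notMem_basicOpen x hx b
  have hzero : ∀ (x : C') (hx : x ∈ ν ⁻¹ᵁ V), ξ₁ ⤳ x → ∀ b, θ b = 0 →
      b ∈ RingHom.ker (C'.evaluation (ν ⁻¹ᵁ V) x hx).hom := by
    intro x hx hsp b hb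
    rw [mem]
    intro hxb
    have h5 : ξ₁ ∈ C'.basicOpen b := hsp.mem_open (C'.basicOpen b).2 hxb
    have h6 : (C'.evaluation (ν ⁻¹ᵁ V) ξ₁ hηV).hom b = 0 := by
      have h7 := congrArg (ν.residueFieldMap ξ₁).hom hb
      rw [map_zero] at h7
      rw [← h7]
      have := congr($(IsIso.inv_hom_id (ν.residueFieldMap ξ₁)) ((C'.evaluation (ν ⁻¹ᵁ V) ξ₁ hηV).hom b))
      exact this.symm
    exact ((mem ξ₁ hηV b).mp h6) h5
  have hunit : ∀ (x : C') (hx : x ∈ ν ⁻¹ᵁ V), ν x = ν x₁ → ∀ s : Γ(C, V),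
      algebraMap Γ(C, V) Γ(C', ν ⁻¹ᵁ V) s ∈ RingHom.ker (C'.evaluation (ν ⁻¹ᵁ V) x hx).hom ↔
        ¬ IsUnit (algebraMap Γ(C, V) (C.presheaf.stalk (ν x₁)) s) := by
    intro x hx hxy s
    rw [mem]
    change x ∉ C'.basicOpen ((ν.app V).hom s) ↔ ¬ IsUnit ((C.presheaf.germ V (ν x₁) hyV).hom s)
    rw [← Scheme.preimage_basicOpen, not_iff_not]
    change ν x ∈ C.basicOpen s ↔ _
    rw [hxy]
    exact C.mem_basicOpen s (ν x₁) hyV
  have hle : ∀ (x x' : C') (hx : x ∈ ν ⁻¹ᵁ V) (hx' : x' ∈ ν ⁻¹ᵁ V), ξ₁ ⤳ x → ξ₁ ⤳ x' → ν x = ν x₁ → ν x' = ν x₁ →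
      RingHom.ker (C'.evaluation (ν ⁻¹ᵁ V) x hx).hom ≤ RingHom.ker (C'.evaluation (ν ⁻¹ᵁ V) x' hx').hom := by
    intro x x' hx hx' hs hs' he he'
    have hp : (RingHom.ker (C'.evaluation (ν ⁻¹ᵁ V) x hx).hom).IsPrime := RingHom.ker_isPrime _
    have hp' : (RingHom.ker (C'.evaluation (ν ⁻¹ᵁ V) x' hx').hom).IsPrime := RingHom.ker_isPrime _
    refine eq_of_normal (A₀ := Γ(C, V)) (B₀ := Γ(C', ν ⁻¹ᵁ V)) (Ap := C.presheaf.stalk (ν x₁))
      (K := C.residueField (ν ξ₁)) ?_ θ hθ _ _ (hzero x' hx' hs') (hzero x hx hs)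
      (hunit x hx he) (hunit x' hx' he')
    intro z
    obtain ⟨a, s, rfl⟩ := IsLocalization.exists_mk'_eq (hV.primeIdealOf ⟨ν x₁, hyV⟩).asIdeal.primeCompl z
    exact ⟨a, s, IsLocalization.map_units _ s, IsLocalization.mk'_spec _ _ _⟩
  by_contra hne
  obtain ⟨O, hO, hxor⟩ := exists_isOpen_xor_mem hne
  have fin : ∀ (x x' : C') (hx : x ∈ ν ⁻¹ᵁ V) (hx' : x' ∈ ν ⁻¹ᵁ V),
      RingHom.ker (C'.evaluation (ν ⁻¹ᵁ V) x' hx').hom ≤ RingHom.ker (C'.evaluation (ν ⁻¹ᵁ V) x hx).hom →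
      x ∈ O → x' ∉ O → False := by
    intro x x' hx hx' hle hxO hxO'
    obtain ⟨b, hb, hxb⟩ := hW.exists_basicOpen_le (V := ⟨O, hO⟩) ⟨x, hxO⟩ hx
    have h5 : b ∈ RingHom.ker (C'.evaluation (ν ⁻¹ᵁ V) x' hx').hom := (mem x' hx' b).mpr fun h => hxO' (hb h)
    exact (mem x hx b).mp (hle h5) hxb
  rcases hxor with ⟨h5, h6⟩ | ⟨h5, h6⟩
  · exact fin x₁ x₂ hyV hyV' (hle x₂ x₁ hyV' hyV hξ₂ hξ₁ hxx.symm rfl) h5 h6
  · exact fin x₂ x₁ hyV' hyV (hle x₁ x₂ hyV hyV' hξ₁ hξ₂ rfl hxx.symm) h5 h6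

end K335.RegInj
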