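import Groth.Agent.CurvesC.TailMain
import Groth.Agent.CurvesC.CompGeom
import Groth.Agent.Sga5.AmpleFib
import Groth.Agent.Fdesc.StructMod
import Groth.Agent.S1530

/-!
# The degree of an ample invertible module on a connected proper curve is at least the number of components
-/

set_option autoImplicit false
universe u
open CategoryTheory CategoryTheory.Limits AlgebraicGeometry TopologicalSpace Opposite

namespace K335.AmpleCard

open Groth.Agent.CurvesC Groth.Agent.CurvesC.TailNum

attribute [local instance] subOver

/-- On a connected scheme of dimension one, proper over a field, the degree of an ample invertible module is at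
least the number of irreducible components. -/
theorem card_le_deg (k : Type u) [Field k] (X : Scheme.{u}) [X.Over (Spec (CommRingCat.of k))]
    [IsProper (X ↘ (Spec (CommRingCat.of k)))] [ConnectedSpace X]
    (hdim : topologicalKrullDim X = 1)
    (L : X.Modules) (hL : PicF.IsInvertible L) (hamp : CohB1.IsAmple L) :
    (Nat.card (irreducibleComponents (X : Type u)) : ℤ) ≤ Curv2.deg k X L 1 := by
  have hLN : IsLocallyNoetherian X := LocallyOfFiniteType.isLocallyNoetherian (X ↘ (Spec (CommRingCat.of k)))
  have hCS : CompactSpace X := QuasiCompact.compactSpace_of_compactSpace (X ↘ (Spec (CommRingCat.of k)))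
  have hN : IsNoetherian X := { }
  have key := Groth.Agent.S1641.result k X hdim.le 1 L
    (Groth.Agent.Ega2.QCohLocal.isFinLocFreeOfRank_one_iff.mpr hL)
  have hfin := NoetherianSpace.finite_irreducibleComponents (α := (X : Type u))
  have : Finite (irreducibleComponents (X : Type u)) := hfin
  have hI : ∀ Z : irreducibleComponents (X : Type u),
      Set.range (X.irreducibleComponentIdeal Z.1 Z.2).radical.subschemeι = Z.1 := fun Z =>
    Scheme.IdealSheafData.range_subschemeι _
  have hred : ∀ Z : irreducibleComponents (X : Type u),
      IsReduced (X.irreducibleComponentIdeal Z.1 Z.2).radical.subscheme := fun Z =>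
    Groth.Agent.Ega1.ReducedSub.isReduced_subscheme_radical _
  have hirr : ∀ Z : irreducibleComponents (X : Type u),
      IrreducibleSpace (X.irreducibleComponentIdeal Z.1 Z.2).radical.subscheme := fun Z =>
    CompGeom.irreducibleSpace_of_embedding _
      (X.irreducibleComponentIdeal Z.1 Z.2).radical.subschemeι.isEmbedding (by rw [hI Z]; exact Z.2.1)
  have hint : ∀ Z : irreducibleComponents (X : Type u),
      IsIntegral (X.irreducibleComponentIdeal Z.1 Z.2).radical.subscheme := fun Z => by
    have := hred Z
    have := hirr Z
    exact isIntegral_of_irreducibleSpace_of_isReduced _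
  have hdimZ : ∀ Z : irreducibleComponents (X : Type u), topologicalKrullDim (Z.1 : Set X) = 1 := fun Z =>
    TailMain.pure_of_connected X hdim Z.1 Z.2
  have hdimZ' : ∀ Z : irreducibleComponents (X : Type u),
      topologicalKrullDim (X.irreducibleComponentIdeal Z.1 Z.2).radical.subscheme = 1 := fun Z => by
    rw [← Groth.Agent.VarietyB.DegComp.topologicalKrullDim_range_eq
      (X.irreducibleComponentIdeal Z.1 Z.2).radical.subschemeι, hI]
    exact hdimZ Z
  have hlen : ∀ Z : irreducibleComponents (X : Type u), (1 : ℤ) ≤
      ((Module.length (X.presheaf.stalk Z.2.1.genericPoint) (X.presheaf.stalk Z.2.1.genericPoint)).toNat : ℤ) := by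
    intro Z
    have h1 : Module.length (X.presheaf.stalk Z.2.1.genericPoint) (X.presheaf.stalk Z.2.1.genericPoint) ≠ ⊤ := by
      have h2 := Groth.Agent.VarietyB.DegComp.length_stalk_ne_top (Coh.structureModule X)
        (Groth.Agent.Fdesc.StructMod.isCoh_structureModule X) Z
      rwa [← (Groth.Agent.CycB.PushStalk.unitStalk X Z.2.1.genericPoint).length_eq] at h2
    have h3 : Module.length (X.presheaf.stalk Z.2.1.genericPoint) (X.presheaf.stalk Z.2.1.genericPoint) ≠ 0 :=
      Module.length_pos.ne'
    have h4 : (Module.length (X.presheaf.stalk Z.2.1.genericPoint)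
        (X.presheaf.stalk Z.2.1.genericPoint)).toNat ≠ 0 := by
      rw [Ne, ENat.toNat_eq_zero]
      exact not_or.mpr ⟨h3, h1⟩
    exact_mod_cast Nat.pos_of_ne_zero h4
  have hdeg : ∀ Z : irreducibleComponents (X : Type u), (1 : ℤ) ≤
      Curv2.deg k (X.irreducibleComponentIdeal Z.1 Z.2).radical.subscheme
        ((Scheme.Modules.pullback (X.irreducibleComponentIdeal Z.1 Z.2).radical.subschemeι).obj L) 1 := by
    intro Z
    have := hint Z
    have hP : IsProper ((X.irreducibleComponentIdeal Z.1 Z.2).radical.subscheme ↘ Spec (CommRingCat.of k)) :=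
      inferInstanceAs (IsProper ((X.irreducibleComponentIdeal Z.1 Z.2).radical.subschemeι ≫
        (X ↘ (Spec (CommRingCat.of k)))))
    have h1 := (Groth.Agent.S1530.result k (X.irreducibleComponentIdeal Z.1 Z.2).radical.subscheme (hdimZ' Z)
      ((Scheme.Modules.pullback (X.irreducibleComponentIdeal Z.1 Z.2).radical.subschemeι).obj L)
      (Groth.Agent.Fdesc.LocGen.isInvertible_pullback _ hL)).mp
        (Groth.Agent.Sga5.AmpleFib.isAmple_pullback _ hamp)
    exact h1
  let _ := Fintype.ofFinite (irreducibleComponents (X : Type u))
  rw [key, finsum_eq_sum_of_fintype, Nat.card_eq_fintype_card, ← Finset.card_univ]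
  calc ((Finset.univ : Finset (irreducibleComponents (X : Type u))).card : ℤ)
      = ∑ Z : irreducibleComponents (X : Type u), (1 : ℤ) := by simp
    _ ≤ _ := by
      refine Finset.sum_le_sum fun Z _ => ?_
      rw [if_pos (hdimZ Z)]
      calc (1 : ℤ) = 1 * 1 := (one_mul 1).symm
        _ ≤ _ := mul_le_mul (hlen Z) (hdeg Z) zero_le_one (zero_le_one.trans (hlen Z))

theorem one_le_deg (k : Type u) [Field k] (X : Scheme.{u}) [X.Over (Spec (CommRingCat.of k))]
    [IsProper (X ↘ (Spec (CommRingCat.of k)))] [ConnectedSpace X]
    (hdim : topologicalKrullDim X = 1)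
    (L : X.Modules) (hL : PicF.IsInvertible L) (hamp : CohB1.IsAmple L) :
    1 ≤ Curv2.deg k X L 1 := by
  have hLN : IsLocallyNoetherian X := LocallyOfFiniteType.isLocallyNoetherian (X ↘ (Spec (CommRingCat.of k)))
  have hCS : CompactSpace X := QuasiCompact.compactSpace_of_compactSpace (X ↘ (Spec (CommRingCat.of k)))
  have hN : IsNoetherian X := { }
  have : Finite (irreducibleComponents (X : Type u)) :=
    NoetherianSpace.finite_irreducibleComponents (α := (X : Type u))
  have hne : Nonempty (irreducibleComponents (X : Type u)) := by
    obtain ⟨x⟩ := (inferInstance : Nonempty X)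
    exact ⟨⟨_, irreducibleComponent_mem_irreducibleComponents x⟩⟩
  have h1 : 1 ≤ Nat.card (irreducibleComponents (X : Type u)) := Nat.card_pos
  have h2 : (1 : ℤ) ≤ Nat.card (irreducibleComponents (X : Type u)) := by exact_mod_cast h1
  exact h2.trans (card_le_deg k X hdim L hL hamp)

/-- If an ample invertible module has degree one, then the curve is irreducible. -/
theorem irreducibleSpace_of_deg_eq_one (k : Type u) [Field k] (X : Scheme.{u}) [X.Over (Spec (CommRingCat.of k))]
    [IsProper (X ↘ (Spec (CommRingCat.of k)))] [ConnectedSpace X]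
    (hdim : topologicalKrullDim X = 1)
    (L : X.Modules) (hL : PicF.IsInvertible L) (hamp : CohB1.IsAmple L) (hdeg : Curv2.deg k X L 1 = 1) :
    IrreducibleSpace X := by
  have hLN : IsLocallyNoetherian X := LocallyOfFiniteType.isLocallyNoetherian (X ↘ (Spec (CommRingCat.of k)))
  have hCS : CompactSpace X := QuasiCompact.compactSpace_of_compactSpace (X ↘ (Spec (CommRingCat.of k)))
  have hN : IsNoetherian X := { }
  have : Finite (irreducibleComponents (X : Type u)) :=
    NoetherianSpace.finite_irreducibleComponents (α := (X : Type u))
  have h1 := card_le_deg k X hdim L hL hamp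
  rw [hdeg] at h1
  have h2 : Nat.card (irreducibleComponents (X : Type u)) ≤ 1 := by exact_mod_cast h1
  have h3 : Subsingleton (irreducibleComponents (X : Type u)) :=
    (Finite.card_le_one_iff_subsingleton).mp h2
  obtain ⟨x⟩ := (inferInstance : Nonempty X)
  have hall : irreducibleComponent x = Set.univ := by
    refine Set.eq_univ_of_forall fun y => ?_
    have h4 : (⟨_, irreducibleComponent_mem_irreducibleComponents x⟩ : irreducibleComponents (X : Type u)) =
        ⟨_, irreducibleComponent_mem_irreducibleComponents y⟩ := Subsingleton.elim _ _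
    have h5 : irreducibleComponent x = irreducibleComponent y := congrArg Subtype.val h4
    rw [h5]
    exact mem_irreducibleComponent
  have h6 : IsIrreducible (Set.univ : Set X) := by
    rw [← hall]
    exact isIrreducible_irreducibleComponent
  exact (irreducibleSpace_def _).mpr h6

end K335.AmpleCard
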