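import Groth.Agent.CohqA.KerGr
import Groth.Agent.CohqA.HBiprod
import Groth.Agent.CurvesC.GGVanish
import Groth.Agent.CohqB.FiniteType2

/-!
# `H^1` and global sections modulo an ideal of the base when `H^2` vanishes

`X` over `Spec A`, `J` a finitely generated ideal of `A`, `p : M ⟶ N` the quotient modulo `J M`, and `H^{q+1} = 0` on
coherent modules.
* `exists_epi`: `ker p` is a quotient of a finite direct sum of copies of `M`;
* `subsingleton_kernel`: `H^q(M) = 0` implies `H^q(J M) = 0`;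
* `mem_smul_top`: `H^q(N) = 0` implies `H^q(M) = J H^q(M)`;
* `app_top_surjective`: `H^1(M) = 0` implies that `Γ(X, M) → Γ(X, N)` is surjective.
-/

set_option autoImplicit false
universe u
open CategoryTheory CategoryTheory.Limits AlgebraicGeometry Opposite TopologicalSpace

namespace K335.ClosedFib

open Groth.Agent Groth.Agent.FormalB.ModPow Groth.Agent.CohqB.HSeqMod

attribute [local instance] Abelian.hasFiniteBiproducts

/-- A finite direct sum of coherent modules is coherent. -/
theorem isCoh_biproduct {X : Scheme.{u}} {J : Type} [Finite J] (F : J → X.Modules)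
    (h : ∀ j, Coh.IsCoh (F j)) : Coh.IsCoh (⨁ F) := by
  cases nonempty_fintype J
  have hq : Coh.IsQCoh (⨁ F) := CohqA.HBiprod.isQCoh_biproduct F fun j => (h j).1
  refine ⟨hq, CohqB.FiniteType2.isFT_of_finite_sections _ fun x => ?_⟩
  obtain ⟨_, ⟨U, hU, rfl⟩, hxU, -⟩ :=
    X.isBasis_affineOpens.exists_subset_of_mem_open (Set.mem_univ x) isOpen_univ
  refine ⟨U, hxU, hU, ?_⟩
  have : ∀ j, Module.Finite Γ(X, U) Γ(F j, U) := fun j => by
    have := (h j).1
    exact CohqB.FiniteType2.finite_sections_of_isFT (F j) (h j).2 hU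
  let φ : (∀ j, Γ(F j, U)) →ₗ[Γ(X, U)] Γ(⨁ F, U) :=
    { toFun := fun z => ∑ j, (biproduct.ι F j).app U (z j)
      map_add' := fun z w => by
        simp only [Pi.add_apply, map_add, Finset.sum_add_distrib]
      map_smul' := fun c z => by
        simp only [Pi.smul_apply, Scheme.Modules.Hom.app_smul, Finset.smul_sum, RingHom.id_apply] }
  refine Module.Finite.of_surjective φ fun x => ?_
  exact ⟨fun j => (biproduct.π F j).app U x, (CohqA.HBiprod.eq_sum F U x).symm⟩

variable {A : Type u} [CommRing A] {X : Scheme.{u}} [X.Over (Spec (CommRingCat.of A))]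

theorem smulMod_sum (M : X.Modules) {ι : Type*} (s : Finset ι) (c : ι → A) :
    Formal.smulMod A M (∑ i ∈ s, c i) = ∑ i ∈ s, Formal.smulMod A M (c i) := by
  classical
  induction s using Finset.induction_on with
  | empty => simp only [Finset.sum_empty]; exact smulMod_zero M
  | insert i s hi ih => rw [Finset.sum_insert hi, Finset.sum_insert hi, smulMod_add, ih]

variable {J : Ideal A} {r : ℕ} {M N : X.Modules} {p : M ⟶ N}

/-- `J M` is a quotient of `M^r`. -/
theorem exists_epi (a : Fin r → A) (hJ : Ideal.span (Set.range a) = J) (hp : IsModPow J p) :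
    ∃ σ : (⨁ fun _ : Fin r => M) ⟶ kernel p, Epi σ ∧
      ∀ j, biproduct.ι (fun _ : Fin r => M) j ≫ σ ≫ kernel.ι p = Formal.smulMod A M (a j) := by
  have ha : ∀ j, a j ∈ J := fun j => hJ ▸ Ideal.subset_span ⟨j, rfl⟩
  let k : ∀ _ : Fin r, M ⟶ kernel p := fun j => kernel.lift p (Formal.smulMod A M (a j)) (hp.smul_comp _ (ha j))
  refine ⟨biproduct.desc k, ?_, fun j => ?_⟩
  · refine Preadditive.epi_of_cancel_zero _ fun {Z} g hg => ?_
    have hk : ∀ j, k j ≫ g = 0 := fun j => by
      rw [← biproduct.ι_desc k j, Category.assoc, hg, comp_zero]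
    refine CohqA.KerGr.eq_zero_of_ker hp g fun c hc kk hkk => ?_
    rw [← hJ] at hc
    obtain ⟨b, hb⟩ := Ideal.mem_span_range_iff_exists_fun.1 hc
    have h1 : kk = ∑ j, Formal.smulMod A M (b j) ≫ k j := by
      rw [← cancel_mono (kernel.ι p), hkk, ← hb, Preadditive.sum_comp, smulMod_sum]
      refine Finset.sum_congr rfl fun j _ => ?_
      rw [Category.assoc, kernel.lift_ι, mul_comm, smulMod_mul]
    rw [h1, Preadditive.sum_comp]
    exact Finset.sum_eq_zero fun j _ => by rw [Category.assoc, hk, comp_zero]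
  · rw [biproduct.ι_desc_assoc, kernel.lift_ι]

/-- `H^q` is right exact when `H^{q+1}` vanishes. -/
theorem hmap_surjective_of_epi [IsLocallyNoetherian X] (q : ℕ)
    (hvan : ∀ M : X.Modules, Coh.IsCoh M → Subsingleton (Coh.HH X M (q + 1)))
    {M N : X.Modules} (g : M ⟶ N) [Epi g] (hM : Coh.IsCoh M) (hN : Coh.IsQCoh N) :
    Function.Surjective (hmap g q) := by
  have hK : Subsingleton (Coh.HH X (kernel g) (q + 1)) := hvan _ (PerfA.CohSerre.isCoh_kernel g hM hN)
  have hS := CurvesC.GGVanish.shortExact_kernel g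
  intro x
  exact CohqB.HSeqMod.exact₃ hS q x (@Subsingleton.elim _ hK _ _)

theorem exists_fin_generators {J : Ideal A} (hJ : J.FG) :
    ∃ (r : ℕ) (a : Fin r → A), Ideal.span (Set.range a) = J := by
  obtain ⟨r, a, ha⟩ := Submodule.fg_iff_exists_fin_generating_family.1 hJ
  exact ⟨r, a, ha⟩

theorem subsingleton_kernel [IsLocallyNoetherian X] (q : ℕ)
    (hvan : ∀ M : X.Modules, Coh.IsCoh M → Subsingleton (Coh.HH X M (q + 1)))
    (hJ : J.FG) (hp : IsModPow J p) (hM : Coh.IsCoh M) (hN : Coh.IsQCoh N)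
    (h : Subsingleton (Coh.HH X M q)) : Subsingleton (Coh.HH X (kernel p) q) := by
  obtain ⟨r, a, ha⟩ := exists_fin_generators hJ
  obtain ⟨σ, hσ, -⟩ := exists_epi a ha hp
  exact CurvesC.GGVanish.subsingleton_of_epi q hvan σ (isCoh_biproduct _ fun _ => hM)
    (PerfA.CohSerre.isCoh_kernel p hM hN).1 (CohqA.HBiprod.subsingleton_HH_biproduct _ q fun _ => h)

theorem mem_smul_top [IsLocallyNoetherian X] (q : ℕ)
    (hvan : ∀ M : X.Modules, Coh.IsCoh M → Subsingleton (Coh.HH X M (q + 1)))
    (hJ : J.FG) (hp : IsModPow J p) (hM : Coh.IsCoh M) (hN : Coh.IsQCoh N)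
    (h : Subsingleton (Coh.HH X N q)) (x : Coh.HH X M q) : x ∈ J • (⊤ : Submodule A (Coh.HH X M q)) := by
  obtain ⟨r, a, ha⟩ := exists_fin_generators hJ
  obtain ⟨σ, hσ, hσa⟩ := exists_epi a ha hp
  have hepi := hp.epi
  obtain ⟨y, rfl⟩ := exact₂ (CurvesC.GGVanish.shortExact_kernel p) q x (@Subsingleton.elim _ h _ _)
  obtain ⟨z, rfl⟩ := hmap_surjective_of_epi q hvan σ (isCoh_biproduct _ fun _ => hM)
    (PerfA.CohSerre.isCoh_kernel p hM hN).1 y
  have h1 : z = ∑ j, hmap (biproduct.ι (fun _ : Fin r => M) j) q (hmap (biproduct.π (fun _ : Fin r => M) j) q z) := by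
    conv_lhs => rw [← hmap_id_apply q z, ← biproduct.total (f := fun _ : Fin r => M), hmap_sum_apply]
    refine Finset.sum_congr rfl fun j _ => ?_
    rw [hmap_comp_apply]
  rw [h1, map_sum, map_sum]
  refine Submodule.sum_mem _ fun j _ => ?_
  have h2 : hmap (kernel.ι p) q (hmap σ q (hmap (biproduct.ι (fun _ : Fin r => M) j) q
      (hmap (biproduct.π (fun _ : Fin r => M) j) q z))) =
      a j • hmap (biproduct.π (fun _ : Fin r => M) j) q z := by
    rw [← hmap_comp_apply, ← hmap_comp_apply, hσa]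
    exact hmap_smulModΓ M _ q _
  exact h2 ▸ Submodule.smul_mem_smul (ha ▸ Ideal.subset_span ⟨j, rfl⟩) Submodule.mem_top

theorem app_top_surjective [IsLocallyNoetherian X]
    (hvan : ∀ M : X.Modules, Coh.IsCoh M → Subsingleton (Coh.HH X M 2))
    (hJ : J.FG) (hp : IsModPow J p) (hM : Coh.IsCoh M) (hN : Coh.IsQCoh N)
    (h : Subsingleton (Coh.HH X M 1)) : Function.Surjective (p.app ⊤) := by
  obtain ⟨r, a, ha⟩ := exists_fin_generators hJ
  obtain ⟨σ, hσ, -⟩ := exists_epi a ha hp
  have hepi := hp.epi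
  let S : ShortComplex X.Modules := ShortComplex.mk (σ ≫ kernel.ι p) p (by
    rw [Category.assoc, kernel.condition, comp_zero])
  have h1 : kernel.lift S.g S.f S.zero = σ := by
    rw [← cancel_mono (kernel.ι p)]
    exact kernel.lift_ι _ _ _
  have h2 : S.Exact := by
    rw [ShortComplex.exact_iff_epi_kernel_lift, h1]
    exact hσ
  exact CurvesC.GGVanish.app_top_surjective_of_exact hvan S h2 (isCoh_biproduct _ fun _ => hM) hM hN
    (CohqA.HBiprod.subsingleton_HH_biproduct _ 1 fun _ => h)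

end K335.ClosedFib
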