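import Groth.Agent.S0032
import Groth.Agent.S0042

/-!
# Vanishing of coherent cohomology above the fibre dimension over a Noetherian affine base
-/

set_option autoImplicit false
universe u
open CategoryTheory CategoryTheory.Limits AlgebraicGeometry Opposite TopologicalSpace

namespace K335.FibVanish

/-- For `f : X ⟶ Y` proper, `Y` affine Noetherian, fibres of dimension `≤ d`: `H^p(X, F) = 0` for `p > d` and `F`
coherent. -/
theorem subsingleton_HH_coh {X Y : Scheme.{u}} (f : X ⟶ Y) [IsProper f] [IsAffine Y]
    [IsLocallyNoetherian Y] (d : ℕ) (hd : ∀ y : Y, topologicalKrullDim ↥(f.fiber y) ≤ d)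
    (F : X.Modules) (hF : Coh.IsCoh F) (p : ℕ) (hp : d < p) : Subsingleton (Coh.HH X F p) := by
  have := hF.1
  obtain ⟨e⟩ := Groth.Agent.S0032.result f F p
  refine @Equiv.subsingleton _ _ e.toEquiv ⟨fun a b => ?_⟩
  refine TopCat.Presheaf.section_ext ((Coh.RpushAb f p).obj (Coh.toAb F)) ⊤ a b fun y _ => ?_
  have hz := Groth.Agent.S0042.result f y d (hd y) F hF p hp
  have := AddCommGrpCat.isZero_iff_subsingleton.1 hz
  exact Subsingleton.elim _ _

end K335.FibVanish
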