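import Groth.Agent.Curves.K335.FreeNhd
import Groth.Agent.Divis.StalkMod
import Groth.Agent.Variety.K432.CurveDeg

/-!
# Degrees of pullbacks under finite flat morphisms of curves

* `finrank_push`: the rank of the stalk of `h_* O` at `y` is `h.finrank y` for `h` finite, flat, lfp.
* `dg_pullback`: `deg f^*L = f.finrank · deg L`.
-/

set_option autoImplicit false
universe u
open CategoryTheory CategoryTheory.Limits AlgebraicGeometry

namespace K335.FinFlatDeg

open Groth.Agent

theorem finrank_push {X Y : Scheme.{u}} (h : X ⟶ Y) [IsFinite h] [Flat h] [LocallyOfFinitePresentation h] (y : Y) :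
    Module.finrank (Y.presheaf.stalk y)
      (((Scheme.Modules.pushforward h).obj (Coh.structureModule X)).presheaf.stalk y) = h.finrank y := by
  obtain ⟨V, -, hyV, hV, hfree, hfin⟩ := FreeNhd.exists_free_nhd h ⊤ y trivial
  let _ : Algebra Γ(Y, V) Γ(X, h ⁻¹ᵁ V) := (h.app V).hom.toAlgebra
  have hnt : Nontrivial Γ(Y, V) :=
    (Y.presheaf.germ V y hyV).hom.domain_nontrivial
  have hq : Coh.IsQCoh ((Scheme.Modules.pushforward h).obj (Coh.structureModule X)) :=
    CohqA.AffPush.isQCoh_push h _ (PerfA.QCohSerre.isQCoh_unit X)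
  refine Divis.StalkMod.stalk_elim _ hq hV y hyV ?_
  intro _ _ _ _ l _ _ _
  let b : Module.Basis (Module.Free.ChooseBasisIndex Γ(Y, V) Γ(X, h ⁻¹ᵁ V)) Γ(Y, V) Γ(X, h ⁻¹ᵁ V) :=
    Module.Free.chooseBasis Γ(Y, V) Γ(X, h ⁻¹ᵁ V)
  let e : Γ(X, h ⁻¹ᵁ V) ≃ₗ[Γ(Y, V)] Γ((Scheme.Modules.pushforward h).obj (Coh.structureModule X), V) :=
    { AddEquiv.refl _ with map_smul' := fun _ _ => rfl }
  have h1 := Module.finrank_eq_card_basis
    ((b.map e).ofIsLocalizedModule (Y.presheaf.stalk y) (hV.primeIdealOf ⟨y, hyV⟩).asIdeal.primeCompl l)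
  rw [h1, ← FreeNhd.finrank_eq h hV ⟨y, hyV⟩ hfree]
  exact (Module.finrank_eq_card_basis b).symm

theorem lfp_of_isFinite {X Y : Scheme.{u}} (f : X ⟶ Y) [IsFinite f] [IsLocallyNoetherian Y] :
    LocallyOfFinitePresentation f :=
  LocallyOfFinitePresentation.iff_locallyOfFiniteType.2 inferInstance

/-- `deg f^* L = f.finrank · deg L` for a finite flat morphism to an integral proper curve. -/
theorem dg_pullback {k : Type u} [Field k] {X Y : Scheme.{u}} [IsIntegral Y] (p : Y ⟶ Spec (CommRingCat.of k))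
    [IsProper p] (hdim : topologicalKrullDim Y = 1) (f : X ⟶ Y) [IsFinite f] [Flat f] (L : Y.Modules)
    (hL : PicF.IsInvertible L) :
    K432.CurveDeg.dg (f ≫ p) ((Scheme.Modules.pullback f).obj L) =
      (f.finrank (genericPoint Y) : ℤ) * K432.CurveDeg.dg p L := by
  have hN : IsLocallyNoetherian Y := LocallyOfFiniteType.isLocallyNoetherian p
  have := lfp_of_isFinite f
  rw [K432.CurveDeg.dg_pullback_finite p hdim f L hL, finrank_push]

/-- The same with `Over` instances. -/
theorem deg_pullback (k : Type u) [Field k] {X Y : Scheme.{u}} [X.Over (Spec (CommRingCat.of k))]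
    [Y.Over (Spec (CommRingCat.of k))] [IsIntegral Y] [IsProper (Y ↘ Spec (CommRingCat.of k))]
    (hdim : topologicalKrullDim Y = 1) (f : X ⟶ Y)
    (hf : f ≫ (Y ↘ Spec (CommRingCat.of k)) = X ↘ Spec (CommRingCat.of k)) [IsFinite f] [Flat f] (a : ℕ)
    (ha : ∀ y, f.finrank y = a) (L : Y.Modules) (hL : PicF.IsInvertible L) :
    Curv2.deg k X ((Scheme.Modules.pullback f).obj L) 1 = (a : ℤ) * Curv2.deg k Y L 1 := by
  have h1 := dg_pullback (Y ↘ Spec (CommRingCat.of k)) hdim f L hL
  rw [ha, hf] at h1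
  exact h1

end K335.FinFlatDeg
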