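import Mathlib.AlgebraicGeometry.Morphisms.FlatRank
import Mathlib.RingTheory.Spectrum.Prime.FreeLocus
import Mathlib.RingTheory.Finiteness.ModuleFinitePresentation

/-!
# Affine neighbourhoods on which a finite flat morphism of constant rank is free

* `finrank_eq`: over an affine open `V` on which `Γ(X, h⁻¹ V)` is free, its rank is `h.finrank y`, `y ∈ V`.
* `exists_free_nhd`: such `V` exist around each point, inside a given open.
-/

set_option autoImplicit false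
universe u
open CategoryTheory CategoryTheory.Limits AlgebraicGeometry

namespace K335.FreeNhd

attribute [local instance] RingHomInvPair.of_ringEquiv in
theorem free_of_isLocalizedModule {R M : Type*} [CommRing R] [AddCommGroup M] [Module R M]
    (S : Submonoid R) (Rₛ Mₛ : Type*) [CommRing Rₛ] [Algebra R Rₛ] [IsLocalization S Rₛ]
    [AddCommGroup Mₛ] [Module R Mₛ] (f : M →ₗ[R] Mₛ) [IsLocalizedModule S f] [Module Rₛ Mₛ]
    [IsScalarTower R Rₛ Mₛ] (h : Module.Free (Localization S) (LocalizedModule S M)) :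
    Module.Free Rₛ Mₛ := by
  set e := (IsLocalization.algEquiv S (Localization S) Rₛ).toRingEquiv
  refine (Module.Free.iff_of_equiv (σ := e) ?_).1 h
  refine { __ := IsLocalizedModule.iso S f, map_smul' := ?_ }
  intro r x
  obtain ⟨r, s, rfl⟩ := IsLocalization.exists_mk'_eq S r
  apply ((Module.End.isUnit_iff _).mp (IsLocalizedModule.map_units f s)).1
  simp [e, ← map_smul, ← smul_assoc]

variable {X Y : Scheme.{u}} (h : X ⟶ Y)

theorem rankAtStalk_eq [IsFinite h] [Flat h] {V : Y.Opens} (hV : IsAffineOpen V) (y : V) :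
    letI : Algebra Γ(Y, V) Γ(X, h ⁻¹ᵁ V) := (h.app V).hom.toAlgebra
    Module.rankAtStalk (R := Γ(Y, V)) Γ(X, h ⁻¹ᵁ V) (hV.primeIdealOf y) = h.finrank y.1 := by
  have hU : IsAffineOpen (h ⁻¹ᵁ V) := hV.preimage h
  let _ : Algebra Γ(Y, V) Γ(X, h ⁻¹ᵁ V) := (h.app V).hom.toAlgebra
  have hfin : (h.app V).hom.Finite := h.finite_app V hV
  have hflat : (h.app V).hom.Flat := by
    have := h.flat_appLE hV hU le_rfl
    rwa [Scheme.Hom.appLE_eq_app] at this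
  have : Module.Finite Γ(Y, V) Γ(X, h ⁻¹ᵁ V) := hfin
  have : Module.Flat Γ(Y, V) Γ(X, h ⁻¹ᵁ V) := hflat
  have hpb : IsPullback hU.fromSpec (Spec.map (h.app V)) h hV.fromSpec := by
    refine (IsOpenImmersion.isPullback _ hU.fromSpec hV.fromSpec h ?_ ?_).flip
    · have := IsAffineOpen.SpecMap_appLE_fromSpec h hV hU le_rfl
      rw [Scheme.Hom.appLE_eq_app] at this
      exact this.symm
    · rw [hV.opensRange_fromSpec, hU.opensRange_fromSpec]
  have h1 := Scheme.Hom.finrank_of_isPullback _ _ _ _ hpb (hV.primeIdealOf y)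
  rw [hV.fromSpec_primeIdealOf] at h1
  rw [← h1]
  exact (Scheme.Hom.finrank_SpecMap_algebraMap Γ(Y, V) Γ(X, h ⁻¹ᵁ V) _).symm

theorem finrank_eq [IsFinite h] [Flat h] {V : Y.Opens} (hV : IsAffineOpen V) (y : V)
    (hfree : letI : Algebra Γ(Y, V) Γ(X, h ⁻¹ᵁ V) := (h.app V).hom.toAlgebra
      Module.Free Γ(Y, V) Γ(X, h ⁻¹ᵁ V)) :
    letI : Algebra Γ(Y, V) Γ(X, h ⁻¹ᵁ V) := (h.app V).hom.toAlgebra
    Module.finrank Γ(Y, V) Γ(X, h ⁻¹ᵁ V) = h.finrank y.1 := by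
  let _ : Algebra Γ(Y, V) Γ(X, h ⁻¹ᵁ V) := (h.app V).hom.toAlgebra
  have hfin : (h.app V).hom.Finite := h.finite_app V hV
  have : Module.Finite Γ(Y, V) Γ(X, h ⁻¹ᵁ V) := hfin
  have : Module.Free Γ(Y, V) Γ(X, h ⁻¹ᵁ V) := hfree
  have hne : Nonempty V := ⟨y⟩
  have : Nontrivial Γ(Y, V) := inferInstance
  rw [← rankAtStalk_eq h hV y, Module.rankAtStalk_eq_finrank_of_free]
  rfl

theorem exists_free_nhd [IsFinite h] [Flat h] [LocallyOfFinitePresentation h] (U : Y.Opens) (y : Y)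
    (hy : y ∈ U) :
    ∃ V : Y.Opens, V ≤ U ∧ y ∈ V ∧ IsAffineOpen V ∧
      letI : Algebra Γ(Y, V) Γ(X, h ⁻¹ᵁ V) := (h.app V).hom.toAlgebra
      Module.Free Γ(Y, V) Γ(X, h ⁻¹ᵁ V) ∧ Module.Finite Γ(Y, V) Γ(X, h ⁻¹ᵁ V) := by
  obtain ⟨V, hV, hyV, hVU⟩ := exists_isAffineOpen_mem_and_subset (x := y) (U := U) hy
  have hU : IsAffineOpen (h ⁻¹ᵁ V) := hV.preimage h
  let _ : Algebra Γ(Y, V) Γ(X, h ⁻¹ᵁ V) := (h.app V).hom.toAlgebra
  have hfin : (h.app V).hom.Finite := h.finite_app V hV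
  have hflat : (h.app V).hom.Flat := by
    have := h.flat_appLE hV hU le_rfl
    rwa [Scheme.Hom.appLE_eq_app] at this
  have hfp : (h.app V).hom.FinitePresentation := by
    have := h.finitePresentation_appLE hV hU le_rfl
    rwa [Scheme.Hom.appLE_eq_app] at this
  have : Module.Finite Γ(Y, V) Γ(X, h ⁻¹ᵁ V) := hfin
  have : Module.Flat Γ(Y, V) Γ(X, h ⁻¹ᵁ V) := hflat
  have : Algebra.FinitePresentation Γ(Y, V) Γ(X, h ⁻¹ᵁ V) := hfp
  have : Module.FinitePresentation Γ(Y, V) Γ(X, h ⁻¹ᵁ V) :=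
    Module.FinitePresentation.of_finite_of_finitePresentation _ _
  set p := hV.primeIdealOf ⟨y, hyV⟩ with hp
  have hfree : Module.Free (Localization.AtPrime p.asIdeal)
      (LocalizedModule p.asIdeal.primeCompl Γ(X, h ⁻¹ᵁ V)) := Module.free_of_flat_of_isLocalRing
  obtain ⟨r, hr, hr', -⟩ := Module.FinitePresentation.exists_free_localizedModule_powers
    p.asIdeal.primeCompl (LocalizedModule.mkLinearMap p.asIdeal.primeCompl Γ(X, h ⁻¹ᵁ V))
    (Localization.AtPrime p.asIdeal)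
  have hVr : IsAffineOpen (Y.basicOpen r) := hV.basicOpen r
  have hle : Y.basicOpen r ≤ V := Y.basicOpen_le r
  have hyr : y ∈ Y.basicOpen r := by
    have h1 : (hV.primeIdealOf ⟨y, hyV⟩) ∈ PrimeSpectrum.basicOpen r := hr
    have h2 := hV.fromSpec_preimage_basicOpen r
    have h3 : hV.fromSpec (hV.primeIdealOf ⟨y, hyV⟩) ∈ Y.basicOpen r := by
      rw [← h2] at h1
      exact h1
    rwa [hV.fromSpec_primeIdealOf] at h3
  refine ⟨Y.basicOpen r, hle.trans hVU, hyr, hVr, ?_, h.finite_app _ hVr⟩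
  letI i1 : Algebra Γ(Y, Y.basicOpen r) Γ(X, h ⁻¹ᵁ (Y.basicOpen r)) := (h.app (Y.basicOpen r)).hom.toAlgebra
  letI i2 : Algebra Γ(Y, V) Γ(Y, Y.basicOpen r) := (Y.presheaf.map (homOfLE hle).op).hom.toAlgebra
  letI i3 : Algebra Γ(X, h ⁻¹ᵁ V) Γ(X, h ⁻¹ᵁ (Y.basicOpen r)) :=
    (X.presheaf.map (homOfLE (h.preimage_mono hle)).op).hom.toAlgebra
  letI i4 : Algebra Γ(Y, V) Γ(X, h ⁻¹ᵁ (Y.basicOpen r)) :=
    ((algebraMap Γ(X, h ⁻¹ᵁ V) Γ(X, h ⁻¹ᵁ (Y.basicOpen r))).comp (algebraMap Γ(Y, V) Γ(X, h ⁻¹ᵁ V))).toAlgebra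
  have t1 : IsScalarTower Γ(Y, V) Γ(X, h ⁻¹ᵁ V) Γ(X, h ⁻¹ᵁ (Y.basicOpen r)) := .of_algebraMap_eq' rfl
  have t2 : IsScalarTower Γ(Y, V) Γ(Y, Y.basicOpen r) Γ(X, h ⁻¹ᵁ (Y.basicOpen r)) := by
    refine .of_algebraMap_eq' ?_
    have := h.naturality (homOfLE hle).op
    exact congr(($this).hom).symm
  have l1 : IsLocalization.Away r Γ(Y, Y.basicOpen r) := hV.isLocalization_basicOpen r
  have l2 : IsLocalization.Away (algebraMap Γ(Y, V) Γ(X, h ⁻¹ᵁ V) r) Γ(X, h ⁻¹ᵁ (Y.basicOpen r)) := by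
    exact hU.isLocalization_of_eq_basicOpen (h.app V r) (homOfLE (h.preimage_mono hle))
      (h.preimage_basicOpen r)
  have l3 : IsLocalizedModule (Submonoid.powers r)
      (IsScalarTower.toAlgHom Γ(Y, V) Γ(X, h ⁻¹ᵁ V) Γ(X, h ⁻¹ᵁ (Y.basicOpen r))).toLinearMap := by
    rw [isLocalizedModule_iff_isLocalization, Algebra.algebraMapSubmonoid_powers]
    exact l2
  exact free_of_isLocalizedModule (Submonoid.powers r) _ _
    (IsScalarTower.toAlgHom Γ(Y, V) Γ(X, h ⁻¹ᵁ V) Γ(X, h ⁻¹ᵁ (Y.basicOpen r))).toLinearMap hr'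

end K335.FreeNhd
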