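import Groth.Agent.Curves.K335.ClosedFib
import Groth.Agent.CurvesC.DegIso
import Groth.Agent.Pic13.H126.D2Unit
import Groth.Agent.VarietyB.GlobGen
import Groth.Agent.VarietyB.GenLocusTensor
import Groth.Agent.Ega2.GlobGenCrit
import Groth.Agent.S0002
import Groth.Agent.S0010
import Groth.Agent.S0012
import Groth.Agent.S1529
import Groth.Agent.S2329
import Groth.Agent.CurvesB.UnitCoh

/-!
# Vanishing and global generation from the closed fibres

`X` proper over a Noetherian ring `A` with `H^2 = 0` on coherent modules, `L` invertible.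
* `main`: if on all closed fibres `H^1(X_s, L_s) = 0` and `L_s` is globally generated then `H^1(X, L) = 0` and `L` is
  globally generated.
* `deg_nonneg`: degrees on closed immersions of curves from degrees on closed subschemes.
-/

set_option autoImplicit false
universe u
open CategoryTheory CategoryTheory.Limits AlgebraicGeometry Opposite TopologicalSpace

namespace K335.NefA

open Groth.Agent Groth.Agent.FormalB.ModPow Groth.Agent.Fdesc.LocGen

/-- A point where the pullback of a section generates. -/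
theorem mem_genLocus_of_pullSec {X Z : Scheme.{u}} (j : Z ⟶ X) {L : X.Modules} (hL : PicF.IsInvertible L)
    (t : Coh.structureModule X ⟶ L) (t' : Coh.structureModule Z ⟶ (Scheme.Modules.pullback j).obj L)
    (h : pullSec j (sec t ⊤) = sec t' ⊤) (z : Z) (hz : z ∈ CohB1.genLocus _ t') : j z ∈ CohB1.genLocus L t := by
  obtain ⟨U, e, hx, he⟩ := (isInvertible_iff L).1 hL (j z)
  obtain ⟨a, ha⟩ := he.exists_eq (sec t U)
  have h1 : sec t' (j ⁻¹ᵁ U) = (j.app U a : Γ(Z, j ⁻¹ᵁ U)) • pullSec j e := by
    rw [← pullSec_smul, ← ha, ← res_sec t (le_top : U ≤ ⊤), ← res_pullSec, h]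
    exact (res_sec t' (j.preimage_mono (le_top : U ≤ ⊤))).symm
  have h2 := genLocus_inf_eq t' (he.pullSec j) h1
  have h3 : z ∈ Z.basicOpen (j.app U a) := by
    rw [← h2]
    exact ⟨hz, hx⟩
  rw [← Scheme.preimage_basicOpen] at h3
  have h4 : j z ∈ X.basicOpen a := h3
  rw [← genLocus_inf_eq t he ha] at h4
  exact h4.1

/-- A closed point of a proper scheme over `Spec A` lies on the fibre over a maximal ideal. -/
theorem exists_maximal {A : Type u} [CommRing A] {X : Scheme.{u}} (f : X ⟶ Spec (CommRingCat.of A)) [IsProper f]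
    (x : X) (hx : IsClosed ({x} : Set X)) : ∃ (m : Ideal A) (_ : m.IsMaximal),
      x ∈ Set.range (pullback.fst f (Spec.map (CommRingCat.ofHom (Ideal.Quotient.mk m)))) := by
  have h1 : IsClosed ({f x} : Set (Spec (CommRingCat.of A))) := by
    have := f.isClosedMap _ hx
    rwa [Set.image_singleton] at this
  have h2 : (f x).asIdeal.IsMaximal := (PrimeSpectrum.isClosed_singleton_iff_isMaximal (R := A) (f x)).1 h1
  refine ⟨(f x).asIdeal, h2, ?_⟩
  rw [Scheme.Pullback.range_fst]
  change f x ∈ Set.range (PrimeSpectrum.comap (Ideal.Quotient.mk (f x).asIdeal))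
  rw [_root_.range_comap_of_surjective _ _ Ideal.Quotient.mk_surjective, Ideal.mk_ker]
  exact le_refl (f x).asIdeal

theorem main (A : Type u) [CommRing A] [IsNoetherianRing A] (X : Scheme.{u}) (f : X ⟶ Spec (CommRingCat.of A))
    [IsProper f] (hvan : ∀ M : X.Modules, Coh.IsCoh M → Subsingleton (Coh.HH X M 2))
    (L : X.Modules) (hL : PicF.IsInvertible L)
    (H : ∀ (m : Ideal A) (_ : m.IsMaximal) (Z : Scheme.{u}) (j : Z ⟶ X) (q : Z ⟶ Spec (CommRingCat.of (A ⧸ m))),
      IsPullback j q f (Spec.map (CommRingCat.ofHom (Ideal.Quotient.mk m))) →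
      Subsingleton (Coh.HH Z ((Scheme.Modules.pullback j).obj L) 1) ∧
        Curv2.IsGloballyGenerated ((Scheme.Modules.pullback j).obj L)) :
    Curv2.IsGloballyGenerated L ∧ Subsingleton (Coh.HH X L 1) := by
  let o : X.Over (Spec (CommRingCat.of A)) := ⟨f⟩
  have hp : IsProper (X ↘ Spec (CommRingCat.of A)) := ‹IsProper f›
  have hX : IsLocallyNoetherian X := LocallyOfFiniteType.isLocallyNoetherian f
  have hcpt : CompactSpace X := QuasiCompact.compactSpace_of_compactSpace f
  have hc := S2329.isCoh_of_isInvertible hL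
  have hfin : Module.Finite A (Coh.HH X L 1) := S0002.result A X L hc 1
  have hci : ∀ m : Ideal A, IsClosedImmersion (Spec.map (CommRingCat.ofHom (Ideal.Quotient.mk m))) := fun m =>
    IsClosedImmersion.spec_of_surjective _ Ideal.Quotient.mk_surjective
  have hcj : ∀ m : Ideal A, IsClosedImmersion (pullback.fst f (Spec.map (CommRingCat.ofHom (Ideal.Quotient.mk m)))) :=
    fun m => by
      have := hci m
      infer_instance
  have hfg : ∀ m : Ideal A, m.FG := fun m => IsNoetherian.noetherian m
  have hpb : ∀ m : Ideal A, IsPullback (pullback.fst f (Spec.map (CommRingCat.ofHom (Ideal.Quotient.mk m))))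
      (pullback.snd f (Spec.map (CommRingCat.ofHom (Ideal.Quotient.mk m)))) f
      (Spec.map (CommRingCat.ofHom (Ideal.Quotient.mk m))) := fun m => IsPullback.of_hasPullback _ _
  have hqj : ∀ m : Ideal A, Coh.IsQCoh ((Scheme.Modules.pullback
      (pullback.fst f (Spec.map (CommRingCat.ofHom (Ideal.Quotient.mk m))))).obj L) := fun m =>
    Ega2.QCohLocal.isQCoh_of_isInvertible (isInvertible_pullback _ hL)
  have hqp : ∀ m : Ideal A, Coh.IsQCoh ((Scheme.Modules.pushforward
      (pullback.fst f (Spec.map (CommRingCat.ofHom (Ideal.Quotient.mk m))))).obj ((Scheme.Modules.pullback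
      (pullback.fst f (Spec.map (CommRingCat.ofHom (Ideal.Quotient.mk m))))).obj L)) := fun m => by
    have := hcj m
    exact CohqA.AffPush.isQCoh_push _ _ (hqj m)
  have hH1 : Subsingleton (Coh.HH X L 1) := by
    have key : ∀ m : Ideal A, m.IsMaximal → (⊤ : Submodule A (Coh.HH X L 1)) ≤ m • ⊤ := by
      intro m hm x _
      have := hcj m
      have h1 := (H m hm _ _ _ (hpb m)).1
      have h2 : Subsingleton (Coh.HH X ((Scheme.Modules.pushforward
          (pullback.fst f (Spec.map (CommRingCat.ofHom (Ideal.Quotient.mk m))))).obj ((Scheme.Modules.pullback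
          (pullback.fst f (Spec.map (CommRingCat.ofHom (Ideal.Quotient.mk m))))).obj L)) 1) := by
        have := hqj m
        obtain ⟨e⟩ := Groth.Agent.S0012.result
          (pullback.fst f (Spec.map (CommRingCat.ofHom (Ideal.Quotient.mk m)))) ((Scheme.Modules.pullback
          (pullback.fst f (Spec.map (CommRingCat.ofHom (Ideal.Quotient.mk m))))).obj L) 1
        exact e.symm.toEquiv.subsingleton
      exact ClosedFib.mem_smul_top 1 hvan (hfg m) (Pic13.H126.D2Unit.isModPow_unit (hpb m) hL) hc (hqp m) h2 x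
    have hann : Module.annihilator A (Coh.HH X L 1) = ⊤ := by
      by_contra hne
      obtain ⟨m, hm, hle⟩ := Ideal.exists_le_maximal _ hne
      obtain ⟨r, hr1, hr2⟩ := Submodule.exists_sub_one_mem_and_smul_eq_zero_of_fg_of_le_smul m
        (⊤ : Submodule A (Coh.HH X L 1)) hfin.1 (key m hm)
      have h3 : r ∈ m := hle (Module.mem_annihilator.2 fun x => hr2 x trivial)
      exact (Ideal.ne_top_iff_one m).1 hm.ne_top (by
        have := m.sub_mem h3 hr1
        simpa using this)
    have h1 : (1 : A) ∈ Module.annihilator A (Coh.HH X L 1) := hann ▸ Submodule.mem_top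
    exact ⟨fun x y => by
      rw [← one_smul A x, ← one_smul A y, Module.mem_annihilator.1 h1 x, Module.mem_annihilator.1 h1 y]⟩
  refine ⟨?_, hH1⟩
  have hgen : ∀ x : X, ∃ t : Coh.structureModule X ⟶ L, x ∈ CohB1.genLocus L t := by
    intro x
    obtain ⟨x', hx', hcl⟩ := IsClosed.exists_closed_singleton (isClosed_closure (s := ({x} : Set X)))
      ⟨x, subset_closure rfl⟩
    obtain ⟨m, hm, z, hz⟩ := exists_maximal f x' hcl
    have := hcj m
    obtain ⟨t', ht'⟩ := VarietyB.GenLocusTensor.exists_mem_genLocus (isInvertible_pullback _ hL)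
      (H m hm _ _ _ (hpb m)).2 z
    obtain ⟨v, hv⟩ := ClosedFib.app_top_surjective hvan (hfg m) (Pic13.H126.D2Unit.isModPow_unit (hpb m) hL) hc
      (hqp m) hH1 (sec t' ⊤)
    have h1 : x' ∈ CohB1.genLocus L (homOf v) := by
      rw [← hz]
      refine mem_genLocus_of_pullSec _ hL (homOf v) t' ?_ z ht'
      rw [sec_homOf]
      have h2 : res L (le_top : (⊤ : X.Opens) ≤ ⊤) v = v := res_refl L v
      rw [h2]
      exact hv
    refine ⟨homOf v, ?_⟩
    have h3 : x ⤳ x' := specializes_iff_mem_closure.2 hx'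
    exact h3.mem_open (CohB1.genLocus L (homOf v)).isOpen h1
  choose t ht using hgen
  exact VarietyB.GlobGen.isGloballyGenerated_of_cover t fun x => ⟨x, ht x⟩

/-- Degrees on closed immersions of curves from degrees on closed subschemes. -/
theorem deg_nonneg {A : Type u} [CommRing A] {X : Scheme.{u}} (f : X ⟶ Spec (CommRingCat.of A)) (L : X.Modules)
    (hnef : ∀ (K : Type u) [Field K] (i : A →+* K) (J : X.IdealSheafData)
      (t : J.subscheme ⟶ Spec (CommRingCat.of K)),
      AlgebraicGeometry.IsIntegral J.subscheme → topologicalKrullDim ↥J.subscheme = 1 →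
      t ≫ Spec.map (CommRingCat.ofHom i) = J.subschemeι ≫ f →
      0 ≤ @Curv2.deg K _ J.subscheme ⟨t⟩ ((Scheme.Modules.pullback J.subschemeι).obj L) 1)
    (K : Type u) [Field K] (i : A →+* K) {C : Scheme.{u}} [C.Over (Spec (CommRingCat.of K))] (g : C ⟶ X)
    [IsClosedImmersion g] (hg : (C ↘ Spec (CommRingCat.of K)) ≫ Spec.map (CommRingCat.ofHom i) = g ≫ f)
    (hC : IsIntegral C) (hdim : topologicalKrullDim C = 1) :
    0 ≤ Curv2.deg K C ((Scheme.Modules.pullback g).obj L) 1 := by
  let e : C ≅ g.ker.subscheme := asIso g.toImage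
  have he : e.hom ≫ g.ker.subschemeι = g := g.toImage_imageι
  let o : g.ker.subscheme.Over (Spec (CommRingCat.of K)) := ⟨e.inv ≫ (C ↘ Spec (CommRingCat.of K))⟩
  have hne : Nonempty ↥g.ker.subscheme := ⟨e.hom (Classical.choice hC.nonempty)⟩
  have hint : IsIntegral g.ker.subscheme := isIntegral_of_isOpenImmersion e.inv
  have hd : topologicalKrullDim g.ker.subscheme = 1 := by
    rw [← hdim]
    exact (IsHomeomorph.topologicalKrullDim_eq _ (Scheme.Hom.homeomorph e.hom).isHomeomorph).symm
  have h0 : e.inv ≫ g ≫ f = g.ker.subschemeι ≫ f := by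
    have h00 : e.inv ≫ g = g.ker.subschemeι := by
      rw [Iso.inv_comp_eq]
      exact he.symm
    rw [← Category.assoc, h00]
  have h1 := hnef K i g.ker (e.inv ≫ (C ↘ Spec (CommRingCat.of K))) hint hd (by
    rw [Category.assoc, hg, h0])
  have h2 : Curv2.deg K C ((Scheme.Modules.pullback e.hom).obj
      ((Scheme.Modules.pullback g.ker.subschemeι).obj L)) 1 =
      Curv2.deg K g.ker.subscheme ((Scheme.Modules.pullback g.ker.subschemeι).obj L) 1 :=
    CurvesC.DegIso.deg_pullback_iso K e (by
      change e.hom ≫ e.inv ≫ _ = _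
      rw [e.hom_inv_id_assoc]) _ 1
  have h3 : Curv2.deg K C ((Scheme.Modules.pullback g).obj L) 1 = Curv2.deg K C ((Scheme.Modules.pullback e.hom).obj
      ((Scheme.Modules.pullback g.ker.subschemeι).obj L)) 1 :=
    CurvesC.DegIso.deg_congr K ((Scheme.Modules.pullbackCongr he).symm.app L ≪≫
      (Scheme.Modules.pullbackComp e.hom g.ker.subschemeι).symm.app L) 1
  rw [h3, h2]
  exact h1

/-- A quasi-coherent module on an affine scheme is globally generated. -/
theorem isGloballyGenerated_of_isAffine {Z : Scheme.{u}} [IsAffine Z] {M : Z.Modules} (hM : Coh.IsQCoh M) :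
    Curv2.IsGloballyGenerated M := by
  refine Ega2.GlobGenCrit.isGloballyGenerated_of_span hM (fun _ : Unit => (⊤ : Z.Opens))
    (fun _ => isAffineOpen_top Z) (by simp) (fun _ => ?_)
  rw [eq_top_iff]
  intro m _
  refine Submodule.subset_span ⟨m, ?_⟩
  simp

/-- Quasi-coherent modules on affine schemes have no higher cohomology. -/
theorem subsingleton_of_isAffine {Z : Scheme.{u}} [IsAffine Z] {M : Z.Modules} (hM : Coh.IsQCoh M) (n : ℕ)
    (hn : 1 ≤ n) : Subsingleton (Coh.HH Z M n) :=
  S0010.result Z 1 (fun _ => ⊤) (fun _ => isAffineOpen_top Z) (by simp) (fun V W hV hW => hV.inf hW) M n hn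

end K335.NefA
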