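import Mathlib.LinearAlgebra.FiniteDimensional.Lemmas
import Mathlib.LinearAlgebra.Dimension.Finrank
import Mathlib.Algebra.Algebra.Subalgebra.Basic
import Mathlib.Tactic.LinearCombination

/-!
# Pairs of vectors independent over a subfield

`K335.PairAlg.not_good`: let `V` be a finite-dimensional `k`-space inside a domain `K`, let `K₀ ⊆ K` be a subfield, and
`H i ⊆ V` subspaces of codimension at most one with no common nonzero vector.  If any two vectors of any `H i` are
`K₀`-dependent and `dim V ≥ 3`, any two vectors of `V` are `K₀`-dependent.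
-/

set_option autoImplicit false

namespace K335.PairAlg

variable {k K : Type*} [Field k] [CommRing K] [IsDomain K] [Algebra k K]

/-- `(a, b)` is good if `b ≠ 0` and `a` is not a multiple of `b` by an element of `K₀`. -/
def Good (K₀ : Subalgebra k K) (a b : K) : Prop := b ≠ 0 ∧ ∀ c ∈ K₀, a ≠ c * b

variable {V : Type*} [AddCommGroup V] [Module k V] [Module.Finite k V]

/-- The elements on a line. -/
def line (K₀ : Subalgebra k K) (φ : V →ₗ[k] K) (w : K) : Submodule k V where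
  carrier := {a | ∃ c ∈ K₀, φ a = c * w}
  add_mem' := by
    rintro a b ⟨c, hc, h1⟩ ⟨d, hd, h2⟩
    exact ⟨c + d, K₀.add_mem hc hd, by rw [map_add, h1, h2, add_mul]⟩
  zero_mem' := ⟨0, K₀.zero_mem, by rw [map_zero, zero_mul]⟩
  smul_mem' := by
    rintro r a ⟨c, hc, h1⟩
    exact ⟨r • c, K₀.smul_mem hc r, by rw [map_smul, h1, smul_mul_assoc]⟩

theorem not_good (K₀ : Subalgebra k K) (hinv : ∀ c ∈ K₀, c ≠ 0 → ∃ d ∈ K₀, c * d = 1)
    (φ : V →ₗ[k] K) (hφ : Function.Injective φ) {ι : Type*} (H : ι → Submodule k V)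
    (hcod : ∀ i, Module.finrank k V ≤ Module.finrank k (H i) + 1)
    (hsep : ∀ a : V, a ≠ 0 → ∃ i, a ∉ H i)
    (hbad : ∀ i, ∀ a ∈ H i, ∀ b ∈ H i, ¬ Good K₀ (φ a) (φ b)) (hV : 3 ≤ Module.finrank k V) (a b : V) :
    ¬ Good K₀ (φ a) (φ b) := by
  have hnt : Nontrivial V := Module.nontrivial_of_finrank_pos (R := k) (by omega)
  obtain ⟨v₀, hv₀⟩ := exists_ne (0 : V)
  obtain ⟨i, -⟩ := hsep v₀ hv₀
  have hi := hcod i
  have hHi : Nontrivial (H i) := Module.nontrivial_of_finrank_pos (R := k) (by omega)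
  obtain ⟨v, hv⟩ := exists_ne (0 : H i)
  have hv' : (v : V) ≠ 0 := by simpa using hv
  obtain ⟨j, hj⟩ := hsep v hv'
  have hcj := hcod j
  have h1 := Submodule.finrank_sup_add_finrank_inf_eq (H i) (H j)
  have h2 : Module.finrank k ↥(H i ⊔ H j) ≤ Module.finrank k V := Submodule.finrank_le _
  have h3 : Nontrivial ↥(H i ⊓ H j) := Module.nontrivial_of_finrank_pos (R := k) (by omega)
  obtain ⟨w, hw⟩ := exists_ne (0 : ↥(H i ⊓ H j))
  have hw' : (w : V) ≠ 0 := by simpa using hw
  have hφw : φ w ≠ 0 := (map_ne_zero_iff φ hφ).2 hw'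
  -- the supremum is everything
  have h4 : H j < H i ⊔ H j := by
    refine lt_of_le_of_ne le_sup_right fun h => hj ?_
    rw [h]
    exact Submodule.mem_sup_left v.2
  have h5 := Submodule.finrank_lt_finrank_of_lt h4
  have h6 : H i ⊔ H j = ⊤ := Submodule.eq_top_of_finrank_eq (by omega)
  have key : ∀ l : ι, (w : V) ∈ H l → H l ≤ line K₀ φ (φ w) := by
    intro l hl x hx
    have h7 := hbad l x hx w hl
    unfold Good at h7
    push Not at h7
    exact h7 hφw
  have h8 : (⊤ : Submodule k V) ≤ line K₀ φ (φ w) := by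
    rw [← h6]
    exact sup_le (key i w.2.1) (key j w.2.2)
  obtain ⟨c, hc, h9⟩ := h8 (Submodule.mem_top : a ∈ ⊤)
  obtain ⟨d, hd, h10⟩ := h8 (Submodule.mem_top : b ∈ ⊤)
  rintro ⟨h11, h12⟩
  have hd0 : d ≠ 0 := by
    rintro rfl
    rw [zero_mul] at h10
    exact h11 h10
  obtain ⟨d', hd', h13⟩ := hinv d hd hd0
  refine h12 (c * d') (K₀.mul_mem hc hd') ?_
  rw [h9, h10]
  linear_combination (-c * φ w) * h13

end K335.PairAlg
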