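import Groth.Agent.Curves.K335.PairMono
import Groth.Agent.Ega2.BasSec
import Groth.Agent.Ega2.QCohLocal
import Groth.Agent.Fdesc.QCohStalk
import Groth.Agent.Ega3B.FibreSpread

/-!
# A pair of sections trivialising `f₁_* f₂^* M` gives a closed immersion

* `surjective_appTop`: if `(a, b) : O² → f₁_* f₂^* M` is an isomorphism, then a closed subscheme of `X` on which `f₁` and
  `f₂` factor through a scheme `K` (mapping to points) has all its functions from `K`;
* `isClosedImmersion_lift`: `X ⟶ P₁ × P₂` is a closed immersion.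
-/

set_option autoImplicit false
universe u
open CategoryTheory CategoryTheory.Limits AlgebraicGeometry Opposite TopologicalSpace

namespace K335.Pair

open Groth.Agent Groth.Agent.Fdesc Groth.Agent.Fdesc.LocGen K320.PointVal

/-- An invertible module on an affine open is generated at every point by a section over it. -/
theorem exists_section_gen {X : Scheme.{u}} {L : X.Modules} (hL : PicF.IsInvertible L) {U : X.Opens}
    (hU : IsAffineOpen U) (x : X) (hx : x ∈ U) :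
    ∃ (w : Γ(L, U)) (D : X.Opens) (h : D ≤ U), x ∈ D ∧ IsGen (res L h w) := by
  obtain ⟨f, e, hf, he⟩ := Ega2.BasSec.exists_isBas_of_finite
    (Ega2.QCohLocal.isFinLocFreeOfRank_one_iff.2 hL) hU {x} (Set.finite_singleton x)
    (Set.singleton_subset_iff.2 hx)
  have hg : IsGen (e 0) := by
    intro V hV
    have h1 := he V hV
    have h2 : (fun a : Γ(X, V) => a • res L hV (e 0)) =
        Ega2.BasSec.comb (fun i => res L hV (e i)) ∘ (fun a : Γ(X, V) => (fun _ : Fin 1 => a)) := by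
      funext a
      simp [Ega2.BasSec.comb]
    rw [h2]
    refine h1.comp ⟨fun a b hab => congrFun hab 0, fun c => ⟨c 0, ?_⟩⟩
    funext i
    rw [Subsingleton.elim i 0]
  obtain ⟨n, m, hm⟩ := QCohStalk.exists_map_eq_pow_smul L hU (Ega2.QCohLocal.isQCoh_of_isInvertible hL) f (e 0)
  refine ⟨m, X.basicOpen f, X.basicOpen_le f, hf rfl, ?_⟩
  have h3 : res L (X.basicOpen_le f) m = (ores (X.basicOpen_le f) f) ^ n • e 0 := hm
  rw [h3]
  exact hg.unit_smul ((X.toRingedSpace.isUnit_res_basicOpen f).pow n)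

section

variable {X P₁ P₂ T K : Scheme.{u}} (f₁ : X ⟶ P₁) (f₂ : X ⟶ P₂) {M : P₂.Modules}

/-- If the two sections form a basis, the sections of `f₂^* M` over `f₁⁻¹ V` are combinations of them. -/
theorem exists_comb (a b : Γ(M, ⊤)) (hiso : IsIso (pairMap f₁ f₂ ![a, b])) (V : P₁.Opens)
    (w : Γ((Scheme.Modules.pullback f₂).obj M, f₁ ⁻¹ᵁ V)) :
    ∃ c d : Γ(P₁, V), w = f₁.app V c • res _ (le_top : f₁ ⁻¹ᵁ V ≤ ⊤) (pullTop f₂ a) +
      f₁.app V d • res _ (le_top : f₁ ⁻¹ᵁ V ≤ ⊤) (pullTop f₂ b) := by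
  have hsurj : Function.Surjective ((pairMap f₁ f₂ ![a, b]).app V) := by
    intro y
    refine ⟨(inv (pairMap f₁ f₂ ![a, b])).app V y, ?_⟩
    have h1 : inv (pairMap f₁ f₂ ![a, b]) ≫ pairMap f₁ f₂ ![a, b] = 𝟙 _ := IsIso.inv_hom_id _
    exact congr(($(h1).app V) y)
  obtain ⟨t, ht⟩ := hsurj (show Γ(E f₁ f₂ M, V) from w)
  obtain ⟨c, rfl⟩ := K591.KerGG.sum_bs t
  rw [Fin.sum_univ_two, map_add, Scheme.Modules.Hom.app_smul, Scheme.Modules.Hom.app_smul, pairMap_bs, pairMap_bs] at ht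
  exact ⟨c 0, c 1, ht.symm⟩

/-- Functions on a closed subscheme over which both maps factor through `K`. -/
theorem surjective_appTop [IsAffineHom f₁] (hM : PicF.IsInvertible M) (a b : Γ(M, ⊤))
    (hiso : IsIso (pairMap f₁ f₂ ![a, b])) (j : T ⟶ X) [IsClosedImmersion j] [IsAffine T]
    (π : T ⟶ K) (r₁ : K ⟶ P₁) (r₂ : K ⟶ P₂) (h₁ : j ≫ f₁ = π ≫ r₁) (h₂ : j ≫ f₂ = π ≫ r₂)
    {V : P₁.Opens} (hV : IsAffineOpen V) (hr₁ : ∀ z, r₁ z ∈ V)
    {W : P₂.Opens} {e : Γ(M, W)} (he : IsGen e) (hr₂ : ∀ z, r₂ z ∈ W) :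
    Function.Surjective (π.appTop) := by
  set L := (Scheme.Modules.pullback f₂).obj M with hLdef
  have hL : PicF.IsInvertible L := isInvertible_pullback f₂ hM
  have hjV : ∀ t, f₁ (j t) ∈ V := fun t => by
    have h3 : f₁ (j t) = r₁ (π t) := congr($h₁ t)
    rw [h3]
    exact hr₁ _
  have hjW : ∀ t, f₂ (j t) ∈ W := fun t => by
    have h3 : f₂ (j t) = r₂ (π t) := congr($h₂ t)
    rw [h3]
    exact hr₂ _
  let U : X.Opens := f₁ ⁻¹ᵁ V
  have hU : IsAffineOpen U := hV.preimage f₁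
  let U' : X.Opens := U ⊓ f₂ ⁻¹ᵁ W
  have hU'U : U' ≤ U := inf_le_left
  have hU'W : U' ≤ f₂ ⁻¹ᵁ W := inf_le_right
  have hTU : (⊤ : T.Opens) ≤ j ⁻¹ᵁ U := fun t _ => hjV t
  have hTU' : (⊤ : T.Opens) ≤ j ⁻¹ᵁ U' := fun t _ => ⟨hjV t, hjW t⟩
  let e' : Γ(L, U') := res L hU'W (pullSec f₂ e)
  have he' : IsGen e' := (he.pullSec f₂).res hU'W
  -- coefficients
  have hex : ∀ w : Γ(L, U), ∃ c : Γ(X, U'), res L hU'U w = c • e' := fun w => he'.exists_eq _
  choose c hc using hex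
  let q : Γ(L, U) → Γ(T, ⊤) := fun w => j.appLE U' ⊤ hTU' (c w)
  have hq_add : ∀ v w, q (v + w) = q v + q w := by
    intro v w
    have h3 : c (v + w) = c v + c w := he'.ext (by rw [← hc, map_add, add_smul, hc, hc])
    change j.appLE U' ⊤ hTU' (c (v + w)) = _
    rw [h3, map_add]
  have hres : ∀ r : Γ(X, U), j.appLE U' ⊤ hTU' (ores hU'U r) = j.appLE U ⊤ hTU r := by
    intro r
    exact congr($(Scheme.Hom.map_appLE j (U := U') (U' := U) hTU' (homOfLE hU'U).op) r)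
  have hq_smul : ∀ (r : Γ(X, U)) (w : Γ(L, U)), q (r • w) = j.appLE U ⊤ hTU r * q w := by
    intro r w
    have h3 : c (r • w) = ores hU'U r * c w := he'.ext (by rw [← hc, res_smul, mul_smul, hc])
    change j.appLE U' ⊤ hTU' (c (r • w)) = _
    rw [h3, map_mul, hres]
  have hjsurj : Function.Surjective (j.appLE U ⊤ hTU) := by
    have h3 := Scheme.Hom.app_surjective j U hU
    have hTU2 : j ⁻¹ᵁ U = ⊤ := top_le_iff.1 hTU
    have h4 : j.appLE U ⊤ hTU = j.app U ≫ T.presheaf.map (homOfLE hTU).op := rfl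
    intro g
    obtain ⟨g', hg'⟩ : ∃ g', T.presheaf.map (homOfLE hTU).op g' = g := by
      have h5 : IsIso (homOfLE hTU) := ⟨homOfLE (le_of_eq hTU2), Subsingleton.elim _ _, Subsingleton.elim _ _⟩
      have h6 : IsIso (T.presheaf.map (homOfLE hTU).op) := inferInstance
      exact (ConcreteCategory.bijective_of_isIso (T.presheaf.map (homOfLE hTU).op)).2 g
    obtain ⟨r, rfl⟩ := h3 g'
    exact ⟨r, by rw [h4]; exact hg'⟩
  -- the ideal of the coefficients
  let J : Ideal Γ(T, ⊤) :=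
    { carrier := Set.range q
      add_mem' := by
        rintro _ _ ⟨v, rfl⟩ ⟨w, rfl⟩
        exact ⟨v + w, hq_add v w⟩
      zero_mem' := ⟨0, by
        have h3 := hq_smul 0 0
        rwa [zero_smul, map_zero, zero_mul] at h3⟩
      smul_mem' := by
        rintro r _ ⟨w, rfl⟩
        obtain ⟨r', rfl⟩ := hjsurj r
        exact ⟨r' • w, hq_smul r' w⟩ }
  have hJ : J = ⊤ := by
    have h3 : Ideal.span (Set.range q) = ⊤ := by
      rw [← (isAffineOpen_top T).iSup_basicOpen_eq_self_iff]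
      rw [eq_top_iff]
      intro t _
      obtain ⟨w, D, hD, htD, hw⟩ := exists_section_gen hL hU (j t) (hjV t)
      have htD' : j t ∈ D ⊓ U' := ⟨htD, hjV t, hjW t⟩
      -- the coefficient of `w` is a unit near `j t`
      have h4 : IsUnit (ores (inf_le_right : D ⊓ U' ≤ U') (c w)) := by
        refine (he'.res (inf_le_right : D ⊓ U' ≤ U')).isUnit_of_smul ?_
        have h5 : ores (inf_le_right : D ⊓ U' ≤ U') (c w) • res L (inf_le_right : D ⊓ U' ≤ U') e' =
            res L (inf_le_left : D ⊓ U' ≤ D) (res L hD w) := by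
          rw [← res_smul, ← hc, res_res, res_res]
        rw [h5]
        exact hw.res _
      have h5 : j t ∈ X.basicOpen (c w) := by
        have hmem : j t ∈ U' := ⟨hjV t, hjW t⟩
        rw [X.mem_basicOpen _ _ hmem]
        have h6 := h4.map (X.presheaf.germ (D ⊓ U') (j t) htD').hom
        have h7 : (X.presheaf.germ (D ⊓ U') (j t) htD').hom (ores (inf_le_right : D ⊓ U' ≤ U') (c w)) =
            X.presheaf.germ U' (j t) ⟨hjV t, hjW t⟩ (c w) :=
          X.presheaf.germ_res_apply (homOfLE inf_le_right) (j t) htD' (c w)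
        rw [h7] at h6
        exact h6
      have h6 : t ∈ T.basicOpen (q w) := by
        have h7 := Scheme.basicOpen_appLE j ⊤ U' hTU' (c w)
        rw [h7]
        exact ⟨trivial, h5⟩
      exact Opens.mem_iSup.2 ⟨⟨q w, w, rfl⟩, h6⟩
    rw [eq_top_iff, ← h3, Ideal.span_le]
    exact le_rfl
  -- every function is a coefficient
  intro g
  obtain ⟨w, rfl⟩ : g ∈ J := by
    rw [hJ]
    trivial
  obtain ⟨α, β, hw⟩ := exists_comb f₁ f₂ a b hiso V w
  have hcomp₁ : ∀ α : Γ(P₁, V), j.appLE U ⊤ hTU (f₁.app V α) ∈ Set.range π.appTop := by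
    intro α
    have h3 : j.appLE U ⊤ hTU (f₁.app V α) = (j ≫ f₁).appLE V ⊤ hTU α := by
      have h4 := Scheme.Hom.comp_appLE j f₁ V ⊤ hTU
      exact congr($(h4) α).symm
    have hVK : (⊤ : K.Opens) ≤ r₁ ⁻¹ᵁ V := fun z _ => hr₁ z
    have h5 : (j ≫ f₁).appLE V ⊤ hTU α = π.appTop (r₁.appLE V ⊤ hVK α) := by
      have h6 := Scheme.Hom.appLE_comp_appLE π r₁ V ⊤ ⊤ hVK (le_refl _)
      have h7 : π.appLE ⊤ ⊤ (le_refl _) = π.appTop := Scheme.Hom.appLE_eq_app π
      rw [← h7]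
      have h8 : ∀ (φ ψ : T ⟶ P₁) (hφ : φ = ψ) (h : (⊤ : T.Opens) ≤ φ ⁻¹ᵁ V) (h' : (⊤ : T.Opens) ≤ ψ ⁻¹ᵁ V),
          φ.appLE V ⊤ h α = ψ.appLE V ⊤ h' α := by
        rintro φ _ rfl _ _
        rfl
      exact (h8 (j ≫ f₁) (π ≫ r₁) h₁ hTU (fun t _ => hr₁ (π t))).trans (congr($(h6) α).symm)
    exact ⟨_, (h3.trans h5).symm⟩
  have hcomp₂ : ∀ s : Γ(M, ⊤), q (res L (le_top : U ≤ ⊤) (pullTop f₂ s)) ∈ Set.range π.appTop := by
    intro s
    have h3 : c (res L (le_top : U ≤ ⊤) (pullTop f₂ s)) = ores hU'W (f₂.app W (coeffU he s)) := by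
      apply he'.ext
      rw [← hc, res_res, ← res_smul, ← pullSec_smul, coeffU_smul_gen, ← res_pullSec f₂ (le_top : W ≤ ⊤) s, res_res]
      rfl
    have hTW : (⊤ : T.Opens) ≤ j ⁻¹ᵁ (f₂ ⁻¹ᵁ W) := fun t _ => hjW t
    have h4 : q (res L (le_top : U ≤ ⊤) (pullTop f₂ s)) = (j ≫ f₂).appLE W ⊤ hTW (coeffU he s) := by
      change j.appLE U' ⊤ hTU' (c _) = _
      rw [h3]
      have h5 := congr($(Scheme.Hom.map_appLE j (U := U') (U' := f₂ ⁻¹ᵁ W) hTU' (homOfLE hU'W).op) (f₂.app W (coeffU he s)))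
      refine Eq.trans h5 ?_
      exact congr($(Scheme.Hom.comp_appLE j f₂ W ⊤ hTW) (coeffU he s)).symm
    have hWK : (⊤ : K.Opens) ≤ r₂ ⁻¹ᵁ W := fun z _ => hr₂ z
    have h5 : (j ≫ f₂).appLE W ⊤ hTW (coeffU he s) = π.appTop (r₂.appLE W ⊤ hWK (coeffU he s)) := by
      have h6 := Scheme.Hom.appLE_comp_appLE π r₂ W ⊤ ⊤ hWK (le_refl _)
      have h7 : π.appLE ⊤ ⊤ (le_refl _) = π.appTop := Scheme.Hom.appLE_eq_app π
      rw [← h7]
      have h8 : ∀ (φ ψ : T ⟶ P₂) (hφ : φ = ψ) (h : (⊤ : T.Opens) ≤ φ ⁻¹ᵁ W) (h' : (⊤ : T.Opens) ≤ ψ ⁻¹ᵁ W),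
          φ.appLE W ⊤ h (coeffU he s) = ψ.appLE W ⊤ h' (coeffU he s) := by
        rintro φ _ rfl _ _
        rfl
      exact (h8 (j ≫ f₂) (π ≫ r₂) h₂ hTW (fun t _ => hr₂ (π t))).trans (congr($(h6) (coeffU he s)).symm)
    exact ⟨_, (h4.trans h5).symm⟩
  have hfin : q w = j.appLE U ⊤ hTU (f₁.app V α) * q (res L (le_top : U ≤ ⊤) (pullTop f₂ a)) +
      j.appLE U ⊤ hTU (f₁.app V β) * q (res L (le_top : U ≤ ⊤) (pullTop f₂ b)) := by
    rw [hw, hq_add, hq_smul, hq_smul]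
  obtain ⟨x₁, hx₁⟩ := hcomp₁ α
  obtain ⟨x₂, hx₂⟩ := hcomp₁ β
  obtain ⟨y₁, hy₁⟩ := hcomp₂ a
  obtain ⟨y₂, hy₂⟩ := hcomp₂ b
  refine ⟨x₁ * y₁ + x₂ * y₂, ?_⟩
  rw [hfin, map_add, map_mul, map_mul, hx₁, hx₂, hy₁, hy₂]

end

/-- **The closed immersion into the product.** -/
theorem isClosedImmersion_lift {k : Type u} [Field k] {X P₁ P₂ : Scheme.{u}}
    {p₁ : P₁ ⟶ Spec (CommRingCat.of k)} {p₂ : P₂ ⟶ Spec (CommRingCat.of k)} [IsProper p₁] [IsProper p₂]
    (f₁ : X ⟶ P₁) (f₂ : X ⟶ P₂) [IsFinite f₁] (w : f₁ ≫ p₁ = f₂ ≫ p₂) {M : P₂.Modules}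
    (hM : PicF.IsInvertible M) (a b : Γ(M, ⊤)) (hiso : IsIso (pairMap f₁ f₂ ![a, b])) :
    IsClosedImmersion (pullback.lift f₁ f₂ w) := by
  set F := pullback.lift f₁ f₂ w with hF
  have hF₁ : F ≫ pullback.fst p₁ p₂ = f₁ := pullback.lift_fst _ _ _
  have hF₂ : F ≫ pullback.snd p₁ p₂ = f₂ := pullback.lift_snd _ _ _
  have hfin' : IsFinite (F ≫ pullback.fst p₁ p₂) := by rw [hF₁]; infer_instance
  have hfin : IsFinite F := IsFinite.of_comp F (pullback.fst p₁ p₂)
  have hcl : ∀ y : ↥(pullback p₁ p₂), IsClosed ({y} : Set ↥(pullback p₁ p₂)) →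
      IsClosedImmersion (F.fiberToSpecResidueField y) := by
    intro y hy
    have h1 : IsClosedImmersion ((pullback p₁ p₂).fromSpecResidueField y) :=
      isClosed_singleton_iff_isClosedImmersion.1 hy
    have h2 : IsClosedImmersion (F.fiberι y) :=
      inferInstanceAs (IsClosedImmersion (pullback.fst F ((pullback p₁ p₂).fromSpecResidueField y)))
    have h3 : IsFinite (F.fiberToSpecResidueField y) :=
      inferInstanceAs (IsFinite (pullback.snd F ((pullback p₁ p₂).fromSpecResidueField y)))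
    have h4 : IsAffine (F.fiber y) := isAffine_of_isAffineHom (F.fiberToSpecResidueField y)
    have hcond : F.fiberι y ≫ F = F.fiberToSpecResidueField y ≫ (pullback p₁ p₂).fromSpecResidueField y :=
      pullback.condition
    let r := (pullback p₁ p₂).fromSpecResidueField y
    obtain ⟨V, hV, hyV, -⟩ := exists_isAffineOpen_mem_and_subset (X := P₁)
      (x := pullback.fst p₁ p₂ y) (U := ⊤) trivial
    obtain ⟨W, e, hyW, he⟩ := (isInvertible_iff M).1 hM (pullback.snd p₁ p₂ y)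
    have hsurj := surjective_appTop f₁ f₂ hM a b hiso (F.fiberι y) (F.fiberToSpecResidueField y)
      (r ≫ pullback.fst p₁ p₂) (r ≫ pullback.snd p₁ p₂)
      (by rw [← hF₁, ← Category.assoc, hcond, Category.assoc])
      (by rw [← hF₂, ← Category.assoc, hcond, Category.assoc])
      hV (fun z => by
        have h5 : (r ≫ pullback.fst p₁ p₂) z = pullback.fst p₁ p₂ y := by
          rw [Scheme.Hom.comp_apply]
          congr 1
          exact Scheme.fromSpecResidueField_apply y z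
        rw [h5]
        exact hyV) he (fun z => by
        have h5 : (r ≫ pullback.snd p₁ p₂) z = pullback.snd p₁ p₂ y := by
          rw [Scheme.Hom.comp_apply]
          congr 1
          exact Scheme.fromSpecResidueField_apply y z
        rw [h5]
        exact hyW)
    exact IsClosedImmersion.of_surjective_of_isAffine _ hsurj
  choose! V hyV hV using fun (y : ↥(pullback p₁ p₂)) (hy : IsClosed ({y} : Set ↥(pullback p₁ p₂))) =>
    Ega3B.FibreSpread.exists_isClosedImmersion_near F y (hcl y hy)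
  let ι := {y : ↥(pullback p₁ p₂) // IsClosed ({y} : Set ↥(pullback p₁ p₂))}
  have hcov : ⨆ i : ι, V i.1 = ⊤ := by
    rw [eq_top_iff]
    intro z _
    have hprop : IsProper (pullback.fst p₁ p₂ ≫ p₁) := inferInstance
    have hc : CompactSpace ↥(pullback p₁ p₂) := QuasiCompact.compactSpace_of_compactSpace (pullback.fst p₁ p₂ ≫ p₁)
    obtain ⟨y, hy, hcl'⟩ := IsClosed.exists_closed_singleton (isClosed_closure (s := ({z} : Set ↥(pullback p₁ p₂))))
      ⟨z, subset_closure rfl⟩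
    have h3 : z ⤳ y := specializes_iff_mem_closure.2 hy
    exact Opens.mem_iSup.2 ⟨⟨y, hcl'⟩, h3.mem_open (V y).isOpen (hyV y hcl')⟩
  exact (IsZariskiLocalAtTarget.iff_of_iSup_eq_top (P := @IsClosedImmersion) (f := F) (fun i : ι => V i.1) hcov).2
    fun i => hV i.1 i.2

end K335.Pair
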