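import Groth.Agent.Curves.K335.PairMin
import Groth.Agent.Fdesc.LocGenAmple
import Groth.Agent.S1551

/-!
# Rational functions as quotients of sections

* `exists_sections`: on an integral Noetherian separated scheme of dimension one, every germ at the generic point is the
  quotient of two sections of an invertible module;
* `exists_goodPair`: a germ which is not in `K₀` gives a good pair.
-/

set_option autoImplicit false
universe u
open CategoryTheory CategoryTheory.Limits AlgebraicGeometry Opposite TopologicalSpace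

namespace K335.PairMin

open Groth.Agent Groth.Agent.Fdesc.LocGen K320.PointVal K335.PairAlg

/-- Every germ at the generic point is a quotient of sections of an invertible module. -/
theorem exists_sections {P : Scheme.{u}} [IsIntegral P] [IsNoetherian P] [P.IsSeparated]
    (hdim : topologicalKrullDim P = 1) {ξ : P} (hξ : ξ = genericPoint P) (y : P.presheaf.stalk ξ) :
    ∃ (M : P.Modules) (_ : PicF.IsInvertible M) (a b : Γ(M, ⊤)) (V : P.Opens) (hV : ξ ∈ V) (e : Γ(M, V))
      (he : IsGen e), gc ξ he hV b ≠ 0 ∧ gc ξ he hV a = y * gc ξ he hV b := by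
  obtain ⟨L, hL⟩ := Groth.Agent.S1551.result P hdim
  obtain ⟨W, hW, f₀, rfl⟩ := P.presheaf.exists_germ_eq y
  obtain ⟨m, s, hs, hsW, -⟩ := IsAmple.exists_genLocus_le hL hW
  have hLi := hL.1
  obtain ⟨r, ⟨T⟩⟩ := exists_triv hLi
  obtain ⟨a, ha, haij⟩ := T.exists_family (m + 1) s
  have hloc := T.genLocus_inf ha
  have hle : ∀ i, P.basicOpen (a i) ≤ CohB1.genLocus _ s := fun i => by
    rw [← hloc i]; exact inf_le_left
  have hcomp : ∀ i j, IsCompact ((T.U i ⊓ T.U j : P.Opens) : Set P) := fun i j =>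
    QuasiSeparatedSpace.inter_isCompact _ _ (T.U i).isOpen (T.affine i).isCompact
      (T.U j).isOpen (T.affine j).isCompact
  let f : Γ(P, CohB1.genLocus _ s) := ores hsW f₀
  obtain ⟨N, c, hc, hcf⟩ := exists_extend T.U T.affine hcomp a (fun i j => T.g i j ^ (m + 1)) haij
    (fun _ _ => 1) (fun i => ores (hle i) f) (fun i j V h₁ h₂ h₃ => by simp)
  obtain ⟨t, ht⟩ := T.exists_section ((m + 1) * N) c (fun i j => by
    rw [hc, mul_one, pow_mul])
  obtain ⟨t', ht'⟩ := T.exists_section ((m + 1) * N) (fun i => a i ^ N) (fun i j => by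
    rw [map_pow, haij, mul_pow, map_pow, ← pow_mul])
  have hM := isInvertible_tensorPow hLi ((m + 1) * N)
  obtain ⟨i, hi⟩ : ∃ i, ξ ∈ T.U i := by
    have : ξ ∈ ⨆ i, T.U i := by
      rw [T.cover]
      trivial
    exact Opens.mem_iSup.1 this
  have hξa : ξ ∈ P.basicOpen (a i) := by
    rw [← hloc i]
    exact ⟨hs, hi⟩
  have he := (T.gen i).pow ((m + 1) * N)
  have h1 : coeffU he (sec t ⊤) = c i := by
    apply he.ext
    rw [coeffU_smul_gen, res_sec, ht]
  have h2 : coeffU he (sec t' ⊤) = a i ^ N := by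
    apply he.ext
    rw [coeffU_smul_gen, res_sec, ht']
  have h3 : P.presheaf.germ (T.U i) ξ hi (c i) = P.presheaf.germ (T.U i) ξ hi (a i) ^ N *
      P.presheaf.germ W ξ hW f₀ := by
    have h4 := congrArg (P.presheaf.germ (P.basicOpen (a i)) ξ hξa) (hcf i)
    rw [map_mul, map_pow] at h4
    have h5 : ∀ q : Γ(P, T.U i), P.presheaf.germ (P.basicOpen (a i)) ξ hξa (ores (P.basicOpen_le (a i)) q) =
        P.presheaf.germ (T.U i) ξ hi q := fun q =>
      P.presheaf.germ_res_apply (homOfLE (P.basicOpen_le (a i))) ξ hξa q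
    have h6 : P.presheaf.germ (P.basicOpen (a i)) ξ hξa (ores (hle i) f) = P.presheaf.germ W ξ hW f₀ := by
      have h7 : ores (hle i) f = ores ((hle i).trans hsW) f₀ := ores_ores _ _ _
      rw [h7]
      exact P.presheaf.germ_res_apply (homOfLE ((hle i).trans hsW)) ξ hξa f₀
    rw [h5, h5, h6] at h4
    exact h4
  have h8 : IsUnit (P.presheaf.germ (T.U i) ξ hi (a i)) := (P.mem_basicOpen _ _ hi).1 hξa
  refine ⟨_, hM, sec t ⊤, sec t' ⊤, T.U i, hi, _, he, ?_, ?_⟩
  · rw [gc, h2, map_pow]
    exact (h8.pow N).ne_zero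
  · rw [gc, gc, h1, h2, h3, map_pow, mul_comm]

attribute [local instance] Curv2.stalkAlgebra

/-- A germ which is not in `K₀` gives a good pair. -/
theorem exists_goodPair {k : Type u} [Field k] {P : Scheme.{u}} [P.Over (Spec (CommRingCat.of k))]
    [IsIntegral P] [IsNoetherian P] [P.IsSeparated]
    (hdim : topologicalKrullDim P = 1) {ξ : P} (hξ : ξ = genericPoint P)
    (K₀ : Subalgebra k (P.presheaf.stalk ξ)) {y : P.presheaf.stalk ξ} (hy : y ∉ K₀) :
    ∃ (M : P.Modules) (_ : PicF.IsInvertible M) (a b : Γ(M, ⊤)), GoodPair ξ k K₀ a b := by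
  obtain ⟨M, hM, a, b, V, hV, e, he, h1, h2⟩ := exists_sections hdim hξ y
  refine ⟨M, hM, a, b, V, hV, e, he, h1, fun c hc h3 => hy ?_⟩
  rw [h2] at h3
  rwa [mul_right_cancel₀ h1 h3]

end K335.PairMin
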