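import Groth.Agent.Curves.K335.PairMain
import Groth.Agent.Curves.K321.Satur
import Groth.Agent.Curves.K321.RankTwo
import Groth.Agent.Curves.K323.Nondeg
import Groth.Agent.JacVar.K532.SecMul
import Groth.Agent.VarietyA.EulerAdd

/-!
# Two double covers: the pencils of degree two

* `isFinLocFreeOfRank_push`: `f_* N` is locally free for `f` finite flat and `N` invertible;
* `exists_of_rank_two`: a bundle of rank two and degree two with `h⁰ ≥ 3`, generically generated by two sections, on a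
  curve of positive genus yields an invertible module of degree two with `h⁰ ≥ 2`;
* `exists_g12`: the statement for the target of a double cover in the equality case of Castelnuovo–Severi.
-/

set_option autoImplicit false
universe u
open CategoryTheory CategoryTheory.Limits AlgebraicGeometry Opposite TopologicalSpace

namespace K335.PairG12

open Groth.Agent Groth.Agent.Fdesc Groth.Agent.Fdesc.LocGen K320.PointVal K335.Pair K335.PairMin K335.PairAlg
open K532.CurvePic K532.CurvePts Groth.Agent.Grpsch.PicGrp Groth.Agent.VarietyA.DegRank K335.PairMain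
open Groth.Agent.CurvesB.HZero K321.SubLoc Groth.Agent.Picfga.ZeroHom Groth.Agent.VarietyA.CurveLin

/-- The direct image of an invertible module is locally free. -/
theorem isFinLocFreeOfRank_push {X Y : Scheme.{u}} (h : X ⟶ Y) [IsFinite h] [Flat h] [LocallyOfFinitePresentation h]
    {N : X.Modules} (hN : PicF.IsInvertible N) (d : ℕ) (hd : ∀ y, h.finrank y = d) :
    FlatMod.IsFinLocFreeOfRank d ((Scheme.Modules.pushforward h).obj N) := by
  refine (Ega2.BasSec.isFinLocFreeOfRank_iff _ d).2 fun y => ?_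
  obtain ⟨V', g, hyV', hg⟩ := exists_gen_preimage h hN y
  obtain ⟨V, hVV', hyV, hV, hfree, hfin⟩ := FreeNhd.exists_free_nhd h V' y hyV'
  let _ : Algebra Γ(Y, V) Γ(X, h ⁻¹ᵁ V) := (h.app V).hom.toAlgebra
  have hnt : Nontrivial Γ(Y, V) :=
    (Y.presheaf.germ V y hyV).hom.domain_nontrivial
  have hq : Coh.IsQCoh ((Scheme.Modules.pushforward h).obj N) :=
    CohqA.AffPush.isQCoh_push h _ (Ega2.QCohLocal.isQCoh_of_isInvertible hN)
  have hVV'' : h ⁻¹ᵁ V ≤ h ⁻¹ᵁ V' := h.preimage_mono hVV'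
  have hg' : IsGen (res N hVV'' g) := hg.res hVV''
  let e₀ : Γ(X, h ⁻¹ᵁ V) →ₗ[Γ(Y, V)] Γ((Scheme.Modules.pushforward h).obj N, V) :=
    { toFun := fun a => (show Γ(N, h ⁻¹ᵁ V) from a • res N hVV'' g)
      map_add' := fun a b => add_smul a b (res N hVV'' g)
      map_smul' := fun r a => mul_smul (h.app V r) a (res N hVV'' g) }
  let e : Γ(X, h ⁻¹ᵁ V) ≃ₗ[Γ(Y, V)] Γ((Scheme.Modules.pushforward h).obj N, V) :=
    LinearEquiv.ofBijective e₀ hg'.bijective
  have hfr : Module.finrank Γ(Y, V) Γ(X, h ⁻¹ᵁ V) = d := by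
    rw [FreeNhd.finrank_eq h hV ⟨y, hyV⟩ hfree]
    exact hd y
  let b : Module.Basis (Fin d) Γ(Y, V) Γ(X, h ⁻¹ᵁ V) := Module.finBasisOfFinrankEq _ _ hfr
  exact ⟨V, ⇑(b.map e), hyV, Ega2.BasSec.isBas_of_bijective hq hV
    ((Ega2.BasSec.comb_bijective_iff _).mpr ⟨b.map e, rfl⟩)⟩

/-- `h⁰` of the middle term. -/
theorem finrank_le (k : Type u) [Field k] {X : Scheme.{u}} [X.Over (Spec (CommRingCat.of k))]
    [IsProper (X ↘ (Spec (CommRingCat.of k)))] (S : ShortComplex X.Modules) (hS : S.ShortExact)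
    (h₁ : Coh.IsCoh S.X₁) (h₂ : Coh.IsCoh S.X₂) (h₃ : Coh.IsCoh S.X₃) (q : ℕ) :
    Module.finrank k (Coh.HH X S.X₂ q) ≤ Module.finrank k (Coh.HH X S.X₁ q) + Module.finrank k (Coh.HH X S.X₃ q) := by
  have := Groth.Agent.S0002.result k X _ h₁ q
  have := Groth.Agent.S0002.result k X _ h₂ q
  have := Groth.Agent.S0002.result k X _ h₃ q
  rw [VarietyA.EulerAdd.finrank_eq k S hS q]
  exact Nat.add_le_add (LinearMap.finrank_range_le _) (Submodule.finrank_le _)

/-- A nonzero global section. -/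
theorem h0_pos {k : Type u} [Field k] {X : Scheme.{u}} [X.Over (Spec (CommRingCat.of k))] (hX : IsCurve k X)
    {M : X.Modules} (hM : PicF.IsInvertible M) (φ : Coh.structureModule X ⟶ M) (hφ : φ ≠ 0) :
    0 < h k X 0 (mk M hM) := by
  rw [h_mk]
  have hfin := finite_HH hX hM 0
  have : Nontrivial (Coh.HH X M 0) := by
    refine ⟨(equivAdd M).symm (sec φ ⊤), 0, fun h0 => hφ ?_⟩
    have h1 : sec φ ⊤ = 0 := by
      have := congrArg (equivAdd M) h0
      rwa [AddEquiv.apply_symm_apply, map_zero] at this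
    apply hom_ext_sec
    rw [h1]
    rfl
  exact Module.finrank_pos

/-- **Rank two bundles of degree two.** -/
theorem exists_of_rank_two {k : Type u} [Field k] {P : Scheme.{u}} [P.Over (Spec (CommRingCat.of k))]
    (hX : IsCurve k P) (hP : ∀ x : P, IsPrincipalIdealRing (P.presheaf.stalk x)) (hg : 1 ≤ gen k P)
    {G : P.Modules} (hG : FlatMod.IsFinLocFreeOfRank 2 G) (hdeg : Curv2.deg k P G 2 = 2)
    (h0 : 3 ≤ Module.finrank k (Coh.HH P G 0)) (φ : FlatMod.freeMod P 2 ⟶ G) [Mono φ] :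
    ∃ M : P.Modules, PicF.IsInvertible M ∧ Curv2.deg k P M 1 = 2 ∧ 2 ≤ Module.finrank k (Coh.HH P M 0) := by
  have := hX.integral
  have := hX.proper
  have := hX.noeth
  have hGc := isCoh_of_rank hG
  have hGt := torsionFree_of_rank hG
  have hGr := rk_eq hG
  have hO : PicF.IsInvertible (Coh.structureModule P) := isInvertible_structureModule
  have hOc : Coh.IsCoh (Coh.structureModule P) := S2329.isCoh_of_isInvertible hO
  have hO1 := Ega2.QCohLocal.isFinLocFreeOfRank_one_iff.2 hO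
  have hF2 := isFinLocFreeOfRank_freeMod P 2
  -- a section of `G` and its saturation
  let ι₀ : Coh.structureModule P ⟶ FlatMod.freeMod P 2 := Sigma.ι (fun _ : Fin 2 => Coh.structureModule P) 0
  have hι₀ : ι₀ ≫ Dcoh.FreeSec.pr P (0 : Fin 2) = 𝟙 _ := by
    change Sigma.ι (fun _ : Fin 2 => Coh.structureModule P) 0 ≫ Dcoh.FreeSec.pr P (0 : Fin 2) = _
    rw [Dcoh.FreeSec.ι_pr, if_pos rfl]
  have hι₀m : Mono ι₀ := by
    have : Mono (ι₀ ≫ Dcoh.FreeSec.pr P (0 : Fin 2)) := by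
      rw [hι₀]
      infer_instance
    exact mono_of_mono ι₀ (Dcoh.FreeSec.pr P (0 : Fin 2))
  have hσm : Mono (ι₀ ≫ φ) := mono_comp _ _
  obtain ⟨A, a, i, hi, hai, hAc, hBc, hBt, hrA⟩ := K321.Satur.exists_saturation (ι₀ ≫ φ) hGc
  have hAr : rk A = 1 := by rw [hrA, rk_eq hO1]
  have hA1 : FlatMod.IsFinLocFreeOfRank 1 A := by
    have := isFinLocFreeOfRank hP hAc (TorsionFree.of_mono i hGt)
    rwa [hAr] at this
  have hA : PicF.IsInvertible A := Ega2.QCohLocal.isFinLocFreeOfRank_one_iff.1 hA1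
  have hS := VarietyA.StalkCrit.shortExact_cokernel i
  have hadd := rk_add _ hS hGc
  change rk G = rk A + rk (cokernel i) at hadd
  have hBr : rk (cokernel i) = 1 := by omega
  have hB1 : FlatMod.IsFinLocFreeOfRank 1 (cokernel i) := by
    have := isFinLocFreeOfRank hP hBc hBt
    rwa [hBr] at this
  have hB : PicF.IsInvertible (cokernel i) := Ega2.QCohLocal.isFinLocFreeOfRank_one_iff.1 hB1
  -- degrees
  have hd := deg_add k _ hS hAc hGc hBc 1 1
  change Curv2.deg k P G 2 = Curv2.deg k P A 1 + Curv2.deg k P (cokernel i) 1 at hd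
  -- sections
  have hle := finrank_le k _ hS hAc hGc hBc 0
  change Module.finrank k (Coh.HH P G 0) ≤ Module.finrank k (Coh.HH P A 0) +
    Module.finrank k (Coh.HH P (cokernel i) 0) at hle
  -- `A` has a section
  have hA0 : 0 < h k P 0 (mk A hA) := by
    refine h0_pos hX hA a fun h1 => ?_
    rw [h1, zero_comp] at hai
    have h2 : ι₀ = 0 := by
      rw [← cancel_mono φ, ← hai, zero_comp]
    have hid : (𝟙 (Coh.structureModule P)) = 0 := by rw [← hι₀, h2, zero_comp]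
    have h5 : (1 : Γ(P, ⊤)) = 0 := congr(($hid).app ⊤ (show Γ(Coh.structureModule P, ⊤) from (1 : Γ(P, ⊤))))
    exact one_ne_zero h5
  -- `B` has a section
  have hB0 : 0 < h k P 0 (mk (cokernel i) hB) := by
    by_contra hcon
    have h1 : φ ≫ cokernel.π i = 0 := by
      apply Sigma.hom_ext
      intro j
      rw [comp_zero]
      by_contra h2
      exact hcon (h0_pos hX hB _ h2)
    have h2 : ∃ l : FlatMod.freeMod P 2 ⟶ A, l ≫ i = φ := by
      have := hS.mono_f
      exact ⟨hS.exact.lift φ h1, hS.exact.lift_f φ h1⟩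
    obtain ⟨l, hl⟩ := h2
    have h3 : Mono l := by
      have : Mono (l ≫ i) := by rw [hl]; infer_instance
      exact mono_of_mono l i
    have h4 := K320.BaseFree.rk_le_of_mono l hAc
    rw [rk_eq hF2, hAr] at h4
    omega
  have hdA := deg_nonneg hX hA0
  have hdB := deg_nonneg hX hB0
  rw [deg_mk k P hX.dim] at hdA hdB
  -- an invertible module with two sections has degree at least two
  have key : ∀ {M : P.Modules} (hM : PicF.IsInvertible M), 2 ≤ Module.finrank k (Coh.HH P M 0) →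
      2 ≤ Curv2.deg k P M 1 := by
    intro M hM h2
    have h3 : h k P 0 (mk M hM) = Module.finrank k (Coh.HH P M 0) := h_mk k P 0 hM
    have h4 : 0 < h k P 0 (mk M hM) := by omega
    have h5 := h0_le_deg hX h4
    rw [deg_mk k P hX.dim hM] at h5
    by_contra h6
    have h7 := gen_eq_zero_of_h0_eq hX h4 (by rw [deg_mk k P hX.dim hM]; omega)
      (by rw [deg_mk k P hX.dim hM]; omega)
    omega
  by_cases hc : 2 ≤ Module.finrank k (Coh.HH P A 0)
  · exact ⟨A, hA, le_antisymm (by omega) (key hA hc), hc⟩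
  · have hc' : 2 ≤ Module.finrank k (Coh.HH P (cokernel i) 0) := by omega
    exact ⟨cokernel i, hB, le_antisymm (by omega) (key hB hc'), hc'⟩

/-- Pull-back of sections is injective. -/
theorem pullSect_ne_zero {X P : Scheme.{u}} [IsIntegral P] (f : X ⟶ P) [Surjective f] {M : P.Modules}
    (hM : PicF.IsInvertible M) (s : Γ(M, ⊤)) (hs : s ≠ 0) : OmegaSh.pullSect f M ⊤ s ≠ 0 := by
  intro h3
  obtain ⟨W, ⟨y, hy⟩, hW⟩ := K532.SecMul.exists_isGen hM hs
  have h4 : IsGen (pullSec f (res M (le_top : W ≤ ⊤) s)) := hW.pullSec f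
  have h5 : pullSec f (res M (le_top : W ≤ ⊤) s) = 0 := by
    rw [← res_pullSec f (le_top : W ≤ ⊤) s]
    have h6 : pullSec f s = 0 := h3
    rw [h6, map_zero]
  rw [h5] at h4
  obtain ⟨x, rfl⟩ := f.surjective y
  have h7 : (1 : Γ(X, f ⁻¹ᵁ W)) = 0 := h4.ext (by rw [smul_zero, smul_zero])
  have h8 := congrArg (X.presheaf.germ (f ⁻¹ᵁ W) x hy) h7
  rw [map_one, map_zero] at h8
  exact one_ne_zero h8

/-- **The pencil of degree two on the target of a double cover** in the equality case. -/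
theorem exists_g12 (k : Type u) [Field k] [IsAlgClosed k] (X : Scheme.{u}) [X.Over (Spec (CommRingCat.of k))]
    [IsIntegral X] [IsProper (X ↘ (Spec (CommRingCat.of k)))] (hX : IsCurve k X)
    (γ : ℕ) (hγ : 1 ≤ γ) (hg : Curv2.genus k X = 4 * γ + 1)
    (P₁ : Scheme.{u}) [P₁.Over (Spec (CommRingCat.of k))] [IsIntegral P₁] [IsProper (P₁ ↘ (Spec (CommRingCat.of k)))]
    (hX₁ : IsCurve k P₁) (hreg₁ : ∀ y : P₁, IsPrincipalIdealRing (P₁.presheaf.stalk y)) (hγ₁ : Curv2.genus k P₁ ≤ γ)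
    (P₂ : Scheme.{u}) [P₂.Over (Spec (CommRingCat.of k))] [IsIntegral P₂] [IsProper (P₂ ↘ (Spec (CommRingCat.of k)))]
    (hX₂ : IsCurve k P₂) (hreg₂ : ∀ y : P₂, IsPrincipalIdealRing (P₂.presheaf.stalk y)) (hγ₂ : Curv2.genus k P₂ ≤ γ)
    (f₁ : X ⟶ P₁) (hf₁ : f₁ ≫ (P₁ ↘ Spec (CommRingCat.of k)) = X ↘ Spec (CommRingCat.of k))
    [IsFinite f₁] [Flat f₁] (hr₁ : ∀ y : P₁, Scheme.Hom.finrank f₁ y = 2)
    (f₂ : X ⟶ P₂) (hf₂ : f₂ ≫ (P₂ ↘ Spec (CommRingCat.of k)) = X ↘ Spec (CommRingCat.of k))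
    [IsFinite f₂] [Flat f₂] (hr₂ : ∀ y : P₂, Scheme.Hom.finrank f₂ y = 2)
    (hne : ¬ ∃ e : P₁ ≅ P₂, e.hom ≫ (P₂ ↘ Spec (CommRingCat.of k)) = (P₁ ↘ Spec (CommRingCat.of k)) ∧ f₁ ≫ e.hom = f₂) :
    ∃ M₁ : P₁.Modules, PicF.IsInvertible M₁ ∧ Curv2.deg k P₁ M₁ 1 = 2 ∧ 2 ≤ Module.finrank k (Coh.HH P₁ M₁ 0) := by
  obtain ⟨hg₁, hg₂, N, hN, a, b, hdN, hab, -⟩ := main k X hX γ hg P₁ hX₁ hreg₁ hγ₁ P₂ hX₂ hreg₂ hγ₂
    f₁ hf₁ hr₁ f₂ hf₂ hr₂ hne
  have hN₁ : IsNoetherian P₁ := hX₁.noeth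
  have hN₂ : IsNoetherian P₂ := hX₂.noeth
  have hNX : IsLocallyNoetherian X := LocallyOfFiniteType.isLocallyNoetherian f₁
  have hlfp₁ := K335.FinFlatDeg.lfp_of_isFinite f₁
  have hlfp₂ := K335.FinFlatDeg.lfp_of_isFinite f₂
  have hs₁ : Surjective f₁ := (Scheme.Hom.one_le_finrank_iff_surjective f₁).1 fun y => by
    rw [hr₁]
    exact one_le_two
  have hs₂ : Surjective f₂ := (Scheme.Hom.one_le_finrank_iff_surjective f₂).1 fun y => by
    rw [hr₂]
    exact one_le_two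
  have hη₁ : f₁ (genericPoint X) = genericPoint P₁ := K432.CurveNorm.map_genericPoint f₁
  have hη₂ : f₂ (genericPoint X) = genericPoint P₂ := K432.CurveNorm.map_genericPoint f₂
  -- twist by a point
  obtain ⟨Q, -⟩ := exists_kpt hX₂ (⊤ : P₂.Opens) ⟨genericPoint P₂, trivial⟩
  obtain ⟨O', hO', t, -, hO'Q, ht⟩ := exists_section hX₂ Q
  let M := CohB1.tensorMod N O'
  have hM : PicF.IsInvertible M := isInvertible_tensorMod hN hO'
  have hdM : Curv2.deg k P₂ M 1 = γ + 2 := by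
    rw [← deg_mk k P₂ hX₂.dim hM, ← mk_mul_mk hN hO', deg_mul hX₂, hO'Q, deg_inv hX₂, deg_pcl,
      deg_mk k P₂ hX₂.dim hN, hdN]
    ring
  have hh0 : 3 ≤ Module.finrank k (Coh.HH P₂ M 0) := by
    have h1 := rr hX₂ (mk M hM)
    rw [h_mk k P₂ 0 hM, deg_mk k P₂ hX₂.dim hM, hdM] at h1
    have h2 : (gen k P₂ : ℤ) = γ := by exact_mod_cast hg₂
    have h3 : (0 : ℤ) ≤ h k P₂ 1 (mk M hM) := by positivity
    omega
  have hfin : Module.Finite k (Coh.HH P₂ M 0) := finite_HH hX₂ hM 0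
  -- the pair
  let i : N ⟶ M := mulSec N t
  have hi : Mono i := by
    apply K321.RankTwo.mono_of_ne_zero hreg₂ i ?_ (S2329.isCoh_of_isInvertible hN)
      (torsionFree_of_rank (Ega2.QCohLocal.isFinLocFreeOfRank_one_iff.2 hN))
      (rk_eq (Ega2.QCohLocal.isFinLocFreeOfRank_one_iff.2 hN)) (S2329.isCoh_of_isInvertible hM)
      (torsionFree_of_rank (Ega2.QCohLocal.isFinLocFreeOfRank_one_iff.2 hM))
    intro h0
    have hb : b ≠ 0 := hab.ne_zero _ k _
    have hs : (secOf O').symm t ≠ 0 := fun h => ht (by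
      have := congrArg (secOf O') h
      rwa [AddEquiv.apply_symm_apply, map_zero] at this)
    have hinj := K532.SecMul.mulPair_injective k hN hO' hs
    have hz : K532.SecMul.mulPair k N O' 0 ((secOf O').symm t) ((secOf N).symm b) = 0 := by
      rw [K532.SecMul.mulPair_apply, AddEquiv.apply_symm_apply]
      apply (secOf _).injective
      rw [K532.SecMul.secOf_hmap, AddEquiv.apply_symm_apply, map_zero]
      exact congr(($h0).app ⊤ b)
    have h1 : (secOf N).symm b = 0 := hinj (hz.trans (map_zero _).symm)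
    apply hb
    have := congrArg (secOf N) h1
    rwa [AddEquiv.apply_symm_apply, map_zero] at this
  have hdom : IsDomain (P₂.presheaf.stalk (f₂ (genericPoint X))) := inferInstance
  have hab' := hab.map _ k _ hM i hdom
  have hmono : Mono (pairMap f₁ f₂ ![i.app ⊤ a, i.app ⊤ b]) := by
    obtain ⟨V, hV, e, he, h1, h2⟩ := hab'
    exact mono_pairMap f₁ f₂ _ hη₁ hη₂ he hV _ _ h1 fun c hc => h2 c ((mem_K0 k f₁ f₂ hf₁ hf₂).2 hc)
  have hL := isInvertible_pullback f₂ hM
  have hG : FlatMod.IsFinLocFreeOfRank 2 (E f₁ f₂ M) := isFinLocFreeOfRank_push f₁ hL 2 hr₁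
  have hdG : Curv2.deg k P₁ (E f₁ f₂ M) 2 = 2 := by
    rw [Curv2.deg, euler_E k hX hX₂ f₁ hf₁ f₂ hf₂ hr₂ hM, euler_structure hX₁, hdM, hg, hg₁]
    push_cast
    ring
  have hG0 : 3 ≤ Module.finrank k (Coh.HH P₁ (E f₁ f₂ M) 0) := by
    have h1 : Module.finrank k (Coh.HH P₁ (E f₁ f₂ M) 0) =
        Module.finrank k (Coh.HH X ((Scheme.Modules.pullback f₂).obj M) 0) :=
      VarietyB.HHPush.finrank_HH_push f₁ k hf₁ _ (Ega2.QCohLocal.isQCoh_of_isInvertible hL) 0
    rw [h1]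
    refine hh0.trans ?_
    have h2 : Module.Finite k (Coh.HH X ((Scheme.Modules.pullback f₂).obj M) 0) :=
      Groth.Agent.S0002.result k X _ (S2329.isCoh_of_isInvertible hL) 0
    exact LinearMap.finrank_le_finrank_of_injective
      (Groth.Agent.Curves.K323.Nondeg.pullH0_injective k f₂ hf₂ M fun s hs => pullSect_ne_zero f₂ hM s hs)
  exact exists_of_rank_two hX₁ hreg₁ (by change 1 ≤ Curv2.genus k P₁; omega) hG hdG hG0
    (pairMap f₁ f₂ ![i.app ⊤ a, i.app ⊤ b])

end K335.PairG12
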