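import Groth.Agent.Curves.K335.PairMono
import Groth.Agent.Curves.K335.FinFlatDeg
import Groth.Agent.Curves.K322.CurveIso
import Groth.Agent.Curves.K320.DegTools
import Groth.Agent.Variety.K432.CurveNorm
import Groth.Agent.JacVar.K532.CurvePts
import Groth.Agent.S0115

/-!
# Two covers of the same degree with nested function fields

`exists_iso`: if `f₁ : X ⟶ P₁`, `f₂ : X ⟶ P₂` are finite flat of the same rank and every rational function of `P₂` comes
on `X` from `P₁`, then `P₁ ≅ P₂` compatibly.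
-/

set_option autoImplicit false
universe u
open CategoryTheory CategoryTheory.Limits AlgebraicGeometry Opposite TopologicalSpace

namespace K335.PairIso

open Groth.Agent Groth.Agent.Fdesc.LocGen K532.CurvePic K532.CurvePts Groth.Agent.Grpsch.PicGrp

/-- Morphisms to an affine scheme are detected after an injective extension of rings. -/
theorem ext_of_injective {R S T : CommRingCat.{u}} (φ : R ⟶ S) (hφ : Function.Injective φ)
    (a b : Spec R ⟶ Spec T) (h : Spec.map φ ≫ a = Spec.map φ ≫ b) : a = b := by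
  obtain ⟨a, rfl⟩ := Spec.map_surjective a
  obtain ⟨b, rfl⟩ := Spec.map_surjective b
  rw [← Spec.map_comp, ← Spec.map_comp] at h
  have h1 := Spec.map_injective h
  congr 1
  ext x
  apply hφ
  exact congr($h1 x)

/-- Extension from the generic point, for a point equal to the generic point. -/
theorem exists_hom {S X Y : Scheme.{u}} (p : X ⟶ S) (q : Y ⟶ S) [IsIntegral X] [IsProper q]
    (hv : ∀ x : X, ValuationRing (X.presheaf.stalk x)) (z : X) (hz : z = genericPoint X)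
    (ξ : Spec (X.presheaf.stalk z) ⟶ Y) (hξ : ξ ≫ q = X.fromSpecStalk z ≫ p) :
    ∃ f : X ⟶ Y, f ≫ q = p ∧ X.fromSpecStalk z ≫ f = ξ := by
  subst hz
  exact K322.CurveIso.exists_hom_of_generic p q hv ξ hξ

section

variable {X P₁ P₂ : Scheme.{u}} (f₁ : X ⟶ P₁) (f₂ : X ⟶ P₂) (x : X)

/-- The homomorphism of local rings through which the pull-back factors. -/
theorem exists_ringHom (hinj : Function.Injective (f₁.stalkMap x))
    (hall : ∀ y : P₂.presheaf.stalk (f₂ x), ∃ a : P₁.presheaf.stalk (f₁ x), f₁.stalkMap x a = f₂.stalkMap x y) :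
    ∃ ψ : P₂.presheaf.stalk (f₂ x) ⟶ P₁.presheaf.stalk (f₁ x), ψ ≫ f₁.stalkMap x = f₂.stalkMap x := by
  choose g hg using hall
  let ψ : P₂.presheaf.stalk (f₂ x) →+* P₁.presheaf.stalk (f₁ x) :=
    { toFun := g
      map_one' := hinj (by rw [hg, map_one, map_one])
      map_mul' := fun a b => hinj (by rw [hg, map_mul, map_mul, hg, hg])
      map_zero' := hinj (by rw [hg, map_zero, map_zero])
      map_add' := fun a b => hinj (by rw [hg, map_add, map_add, hg, hg]) }
  refine ⟨CommRingCat.ofHom ψ, ?_⟩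
  ext y
  exact hg y

/-- The morphism between the targets. -/
theorem exists_factor {S : Scheme.{u}} {T : CommRingCat.{u}} (hS : S = Spec T) [IsIntegral X] [IsIntegral P₁]
    (p : X ⟶ S) (p₁ : P₁ ⟶ S) (p₂ : P₂ ⟶ S) [IsProper p₂]
    (h₁ : f₁ ≫ p₁ = p) (h₂ : f₂ ≫ p₂ = p) (hv : ∀ x : P₁, ValuationRing (P₁.presheaf.stalk x))
    (hx : x = genericPoint X) (hx₁ : f₁ x = genericPoint P₁) (hinj : Function.Injective (f₁.stalkMap x))
    (hall : ∀ y : P₂.presheaf.stalk (f₂ x), ∃ a : P₁.presheaf.stalk (f₁ x), f₁.stalkMap x a = f₂.stalkMap x y) :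
    ∃ h : P₁ ⟶ P₂, h ≫ p₂ = p₁ ∧ f₁ ≫ h = f₂ := by
  subst hS
  obtain ⟨ψ, hψ⟩ := exists_ringHom f₁ f₂ x hinj hall
  let ξ : Spec (P₁.presheaf.stalk (f₁ x)) ⟶ P₂ := Spec.map ψ ≫ P₂.fromSpecStalk (f₂ x)
  have e1 : Spec.map (f₁.stalkMap x) ≫ ξ = X.fromSpecStalk x ≫ f₂ := by
    rw [← Category.assoc, ← Spec.map_comp, hψ, Scheme.SpecMap_stalkMap_fromSpecStalk]
  have e2 : ξ ≫ p₂ = P₁.fromSpecStalk (f₁ x) ≫ p₁ := by
    apply ext_of_injective (f₁.stalkMap x) hinj
    rw [← Category.assoc, e1, Category.assoc, h₂, ← Category.assoc, Scheme.SpecMap_stalkMap_fromSpecStalk,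
      Category.assoc, h₁]
  obtain ⟨h, hh, hh'⟩ := exists_hom p₁ p₂ hv (f₁ x) hx₁ ξ e2
  refine ⟨h, hh, ?_⟩
  subst hx
  apply Groth.Agent.Dix.EllScheme.hom_ext_generic p p₂
  · rw [Category.assoc, hh, h₁]
  · exact h₂
  · rw [← e1, ← hh', ← Category.assoc, ← Category.assoc, Scheme.SpecMap_stalkMap_fromSpecStalk]

end

/-- A finite flat morphism of curves through which a cover of the same rank factors is an isomorphism. -/
theorem isIso_of_rank (k : Type u) [Field k] [IsAlgClosed k] {X P₁ P₂ : Scheme.{u}}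
    [X.Over (Spec (CommRingCat.of k))] [P₁.Over (Spec (CommRingCat.of k))] [P₂.Over (Spec (CommRingCat.of k))]
    [IsIntegral P₁] [IsIntegral P₂] [IsProper (P₁ ↘ (Spec (CommRingCat.of k)))]
    [IsProper (P₂ ↘ (Spec (CommRingCat.of k)))] (hdim₁ : topologicalKrullDim P₁ = 1) (hX₂ : IsCurve k P₂)
    (f₁ : X ⟶ P₁) (hf₁ : f₁ ≫ (P₁ ↘ Spec (CommRingCat.of k)) = X ↘ Spec (CommRingCat.of k))
    (f₂ : X ⟶ P₂) (hf₂ : f₂ ≫ (P₂ ↘ Spec (CommRingCat.of k)) = X ↘ Spec (CommRingCat.of k))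
    [IsFinite f₁] [Flat f₁] [Surjective f₁] [IsFinite f₂] [Flat f₂] [Surjective f₂]
    (a : ℕ) (ha : 0 < a) (hr₁ : ∀ y : P₁, f₁.finrank y = a) (hr₂ : ∀ y : P₂, f₂.finrank y = a)
    (h : P₁ ⟶ P₂) (hh : h ≫ (P₂ ↘ Spec (CommRingCat.of k)) = P₁ ↘ Spec (CommRingCat.of k)) (hf : f₁ ≫ h = f₂) :
    IsIso h := by
  have hflat' : Flat (f₁ ≫ h) := by rw [hf]; infer_instance
  have hflat : Flat h := Groth.Agent.S0115.flat_of_comp f₁ h
  have hsurj : Surjective h := by
    have : Surjective (f₁ ≫ h) := by rw [hf]; infer_instance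
    exact Surjective.of_comp f₁ h
  have hprop' : IsProper (h ≫ (P₂ ↘ Spec (CommRingCat.of k))) := by rw [hh]; infer_instance
  have hprop : IsProper h := IsProper.of_comp h (P₂ ↘ Spec (CommRingCat.of k))
  have hfin : IsFinite h := K432.CurveNorm.isFinite_of_dominant (P₂ ↘ Spec (CommRingCat.of k)) h hdim₁ hX₂.dim
  have hN : IsLocallyNoetherian P₂ := LocallyOfFiniteType.isLocallyNoetherian (P₂ ↘ Spec (CommRingCat.of k))
  have hlfp : LocallyOfFinitePresentation h := K335.FinFlatDeg.lfp_of_isFinite h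
  have hone : h.finrank (genericPoint P₂) = 1 := by
    -- an invertible module of degree one
    obtain ⟨Q, -⟩ := exists_kpt hX₂ (⊤ : P₂.Opens) ⟨genericPoint P₂, trivial⟩
    obtain ⟨M, hM, s, -, h1, -⟩ := exists_section hX₂ Q
    have hdM : Curv2.deg k P₂ M 1 = 1 := by
      rw [← deg_mk k P₂ hX₂.dim hM, h1, deg_inv hX₂, deg_pcl]
      norm_num
    have e1 := K335.FinFlatDeg.deg_pullback k hX₂.dim f₂ hf₂ a hr₂ M hM
    have hM' : PicF.IsInvertible ((Scheme.Modules.pullback h).obj M) := isInvertible_pullback h hM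
    have e2 := K335.FinFlatDeg.deg_pullback k hdim₁ f₁ hf₁ a hr₁ _ hM'
    have e3 := K335.FinFlatDeg.dg_pullback (P₂ ↘ Spec (CommRingCat.of k)) hX₂.dim h M hM
    rw [hh] at e3
    change Curv2.deg k P₁ ((Scheme.Modules.pullback h).obj M) 1 = _ * Curv2.deg k P₂ M 1 at e3
    have e4 : Curv2.deg k X ((Scheme.Modules.pullback f₁).obj ((Scheme.Modules.pullback h).obj M)) 1 =
        Curv2.deg k X ((Scheme.Modules.pullback f₂).obj M) 1 :=
      K320.DegTools.deg_congr k ((Scheme.Modules.pullbackComp f₁ h).app M ≪≫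
        (Scheme.Modules.pullbackCongr hf).app M) 1
    rw [e1, e2, e3, hdM, mul_one, mul_one] at e4
    have ha' : (a : ℤ) ≠ 0 := by exact_mod_cast ha.ne'
    have e5 : (h.finrank (genericPoint P₂) : ℤ) = 1 := by
      apply mul_left_cancel₀ ha'
      rw [e4, mul_one]
    exact_mod_cast e5
  rw [Scheme.Hom.isIso_iff_finrank_eq]
  have hlc := Scheme.Hom.isLocallyConstant_finrank h
  ext y
  rw [hlc.apply_eq_of_isPreconnected isPreconnected_univ (Set.mem_univ y) (Set.mem_univ (genericPoint P₂)), hone]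
  rfl

end K335.PairIso
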