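import Groth.Agent.Curves.K335.PairEx
import Groth.Agent.Curves.K335.PairIso
import Groth.Agent.Curves.K335.PairClosed
import Groth.Agent.CurvesB.CurveRR
import Groth.Agent.VarietyB.HHPush
import Groth.Agent.Curves.K321.SmoothPid
import Groth.Agent.S1524

/-!
# The Castelnuovo–Severi inequality for two double covers

* `finrank_push_inv`: the rank of `f_* N` for `f` finite flat and `N` invertible;
* `euler_ineq`: for a good pair of sections of `M`, `g(X) ≤ 2 deg M - 1 + 2 g(P₁)`, with equality iff the pair gives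
  `O² ≅ f₁_* f₂^* M`;
* `main`: the equality case for two double covers.
-/

set_option autoImplicit false
universe u
open CategoryTheory CategoryTheory.Limits AlgebraicGeometry Opposite TopologicalSpace

namespace K335.PairMain

open Groth.Agent Groth.Agent.Fdesc Groth.Agent.Fdesc.LocGen K320.PointVal K335.Pair K335.PairMin K335.PairAlg
open K532.CurvePic K532.CurvePts Groth.Agent.Grpsch.PicGrp Groth.Agent.VarietyA.DegRank

/-- A basis with one element is a generator. -/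
theorem isGen_of_isBas {X : Scheme.{u}} {M : X.Modules} {U : X.Opens} {e : Fin 1 → Γ(M, U)}
    (he : Ega2.BasSec.IsBas e) : IsGen (e 0) := by
  intro V hV
  have h1 := he V hV
  have h2 : (fun a : Γ(X, V) => a • res M hV (e 0)) =
      Ega2.BasSec.comb (fun i => res M hV (e i)) ∘ (fun a : Γ(X, V) => (fun _ : Fin 1 => a)) := by
    funext a
    simp [Ega2.BasSec.comb]
  rw [h2]
  refine h1.comp ⟨fun a b hab => congrFun hab 0, fun c => ⟨c 0, ?_⟩⟩
  funext i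
  rw [Subsingleton.elim i 0]

/-- An invertible module is free over the inverse image of a neighbourhood, for a finite morphism. -/
theorem exists_gen_preimage {X Y : Scheme.{u}} (f : X ⟶ Y) [IsFinite f] {N : X.Modules}
    (hN : PicF.IsInvertible N) (y : Y) :
    ∃ (V : Y.Opens) (g : Γ(N, f ⁻¹ᵁ V)), y ∈ V ∧ IsGen g := by
  obtain ⟨_, ⟨V, hV, rfl⟩, hxV, -⟩ := Y.isBasis_affineOpens.exists_subset_of_mem_open
    (Set.mem_univ y) isOpen_univ
  have hfin : (f ⁻¹' {y}).Finite := f.finite_preimage_singleton y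
  obtain ⟨g, e, hg, he⟩ := Ega2.BasSec.exists_isBas_of_finite (Ega2.QCohLocal.isFinLocFreeOfRank_one_iff.2 hN)
    (hV.preimage f) (f ⁻¹' {y}) hfin
    (by
      intro z hz
      have hz' : f z = y := hz
      change f z ∈ V
      rw [hz']
      exact hxV)
  let W : X.Opens := X.basicOpen g
  have hcl : IsClosed (f '' (W : Set X)ᶜ) := f.isClosedMap _ W.isOpen.isClosed_compl
  let U : Y.Opens := ⟨(f '' (W : Set X)ᶜ)ᶜ, hcl.isOpen_compl⟩
  have hyU : y ∈ U := by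
    rintro ⟨z, hz, hzx⟩
    exact hz (hg hzx)
  have hUW : f ⁻¹ᵁ U ≤ W := by
    intro z hz
    by_contra hzW
    exact hz ⟨z, hzW, rfl⟩
  exact ⟨U, res N hUW (e 0), hyU, (isGen_of_isBas he).res hUW⟩

/-- The rank of the direct image of an invertible module. -/
theorem finrank_push_inv {X Y : Scheme.{u}} (h : X ⟶ Y) [IsFinite h] [Flat h] [LocallyOfFinitePresentation h]
    {N : X.Modules} (hN : PicF.IsInvertible N) (y : Y) :
    Module.finrank (Y.presheaf.stalk y) (((Scheme.Modules.pushforward h).obj N).presheaf.stalk y) = h.finrank y := by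
  obtain ⟨V', g, hyV', hg⟩ := exists_gen_preimage h hN y
  obtain ⟨V, hVV', hyV, hV, hfree, hfin⟩ := FreeNhd.exists_free_nhd h V' y hyV'
  let _ : Algebra Γ(Y, V) Γ(X, h ⁻¹ᵁ V) := (h.app V).hom.toAlgebra
  have hnt : Nontrivial Γ(Y, V) :=
    (Y.presheaf.germ V y hyV).hom.domain_nontrivial
  have hq : Coh.IsQCoh ((Scheme.Modules.pushforward h).obj N) :=
    CohqA.AffPush.isQCoh_push h _ (Ega2.QCohLocal.isQCoh_of_isInvertible hN)
  have hVV'' : h ⁻¹ᵁ V ≤ h ⁻¹ᵁ V' := h.preimage_mono hVV'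
  have hg' : IsGen (res N hVV'' g) := hg.res hVV''
  refine Divis.StalkMod.stalk_elim _ hq hV y hyV ?_
  intro _ _ _ _ l _ _ _
  let b : Module.Basis (Module.Free.ChooseBasisIndex Γ(Y, V) Γ(X, h ⁻¹ᵁ V)) Γ(Y, V) Γ(X, h ⁻¹ᵁ V) :=
    Module.Free.chooseBasis Γ(Y, V) Γ(X, h ⁻¹ᵁ V)
  let e₀ : Γ(X, h ⁻¹ᵁ V) →ₗ[Γ(Y, V)] Γ((Scheme.Modules.pushforward h).obj N, V) :=
    { toFun := fun a => (show Γ(N, h ⁻¹ᵁ V) from a • res N hVV'' g)
      map_add' := fun a b => add_smul a b (res N hVV'' g)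
      map_smul' := fun r a => mul_smul (h.app V r) a (res N hVV'' g) }
  let e : Γ(X, h ⁻¹ᵁ V) ≃ₗ[Γ(Y, V)] Γ((Scheme.Modules.pushforward h).obj N, V) :=
    LinearEquiv.ofBijective e₀ hg'.bijective
  have h1 := Module.finrank_eq_card_basis
    ((b.map e).ofIsLocalizedModule (Y.presheaf.stalk y) (hV.primeIdealOf ⟨y, hyV⟩).asIdeal.primeCompl l)
  rw [h1, ← FreeNhd.finrank_eq h hV ⟨y, hyV⟩ hfree]
  exact (Module.finrank_eq_card_basis b).symm

/-! ### The free module of rank two -/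

theorem isFinLocFreeOfRank_freeMod (X : Scheme.{u}) (n : ℕ) :
    FlatMod.IsFinLocFreeOfRank n (FlatMod.freeMod X n) :=
  (Ega2.BasSec.isFinLocFreeOfRank_iff _ n).2 fun x =>
    ⟨⊤, Ega2.BasSec.stdSec X n ⊤, trivial, Ega2.BasSec.isBas_stdSec X n ⊤⟩

theorem euler_freeMod_two (k : Type u) [Field k] (X : Scheme.{u}) [X.Over (Spec (CommRingCat.of k))]
    [IsProper (X ↘ (Spec (CommRingCat.of k)))] :
    Curv2.euler k X (FlatMod.freeMod X 2) = 2 * Curv2.euler k X (Coh.structureModule X) := by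
  let S : ShortComplex X.Modules := ShortComplex.mk
    (Sigma.ι (fun _ : Fin 2 => Coh.structureModule X) 0) (Dcoh.FreeSec.pr X (1 : Fin 2)) (by
      rw [Dcoh.FreeSec.ι_pr]
      simp)
  let σ : S.Splitting :=
    { r := Dcoh.FreeSec.pr X (0 : Fin 2)
      s := Sigma.ι (fun _ : Fin 2 => Coh.structureModule X) 1
      f_r := by
        change Sigma.ι (fun _ : Fin 2 => Coh.structureModule X) 0 ≫ Dcoh.FreeSec.pr X (0 : Fin 2) = _
        rw [Dcoh.FreeSec.ι_pr, if_pos rfl]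
      s_g := by
        change Sigma.ι (fun _ : Fin 2 => Coh.structureModule X) 1 ≫ Dcoh.FreeSec.pr X (1 : Fin 2) = _
        rw [Dcoh.FreeSec.ι_pr, if_pos rfl]
      id := by
        have h := Dcoh.FreeSec.sum_pr_ι (X := X) (n := 2)
        rw [Fin.sum_univ_two] at h
        exact h }
  have hO : Coh.IsCoh (Coh.structureModule X) := by
    have : IsLocallyNoetherian X := LocallyOfFiniteType.isLocallyNoetherian (X ↘ (Spec (CommRingCat.of k)))
    exact CurvesB.UnitCoh.isCoh_structureModule X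
  have h1 := Groth.Agent.S1524.result k X S σ.shortExact hO
    (K321.SubLoc.isCoh_of_rank (isFinLocFreeOfRank_freeMod X 2)) hO
  change Curv2.euler k X (FlatMod.freeMod X 2) = Curv2.euler k X (Coh.structureModule X) +
    Curv2.euler k X (Coh.structureModule X) at h1
  rw [h1]
  ring

/-- `χ(O) = 1 - g`. -/
theorem euler_structure {k : Type u} [Field k] {X : Scheme.{u}} [X.Over (Spec (CommRingCat.of k))] (hX : IsCurve k X) :
    Curv2.euler k X (Coh.structureModule X) = 1 - (Curv2.genus k X : ℤ) := by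
  have := hX.noeth
  rw [CurvesB.CurveRR.euler_eq k X hX.dim.le, hX.h0]
  rfl

section ineq

variable (k : Type u) [Field k] {X P₁ P₂ : Scheme.{u}} [X.Over (Spec (CommRingCat.of k))]
  [P₁.Over (Spec (CommRingCat.of k))] [P₂.Over (Spec (CommRingCat.of k))]
  (hX : IsCurve k X) (hX₁ : IsCurve k P₁) (hX₂ : IsCurve k P₂)
  (f₁ : X ⟶ P₁) (hf₁ : f₁ ≫ (P₁ ↘ Spec (CommRingCat.of k)) = X ↘ Spec (CommRingCat.of k))
  (f₂ : X ⟶ P₂) (hf₂ : f₂ ≫ (P₂ ↘ Spec (CommRingCat.of k)) = X ↘ Spec (CommRingCat.of k))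
  [IsFinite f₁] [Flat f₁] (hr₁ : ∀ y : P₁, f₁.finrank y = 2)
  [IsFinite f₂] [Flat f₂] (hr₂ : ∀ y : P₂, f₂.finrank y = 2)

include hX hX₂ hf₂ hf₁ hr₂ in
/-- The Euler characteristic of `f₁_* f₂^* M`. -/
theorem euler_E {M : P₂.Modules} (hM : PicF.IsInvertible M) :
    Curv2.euler k P₁ (E f₁ f₂ M) = 2 * Curv2.deg k P₂ M 1 + 1 - (Curv2.genus k X : ℤ) := by
  have := hX₂.integral
  have := hX₂.proper
  have h1 : Curv2.euler k P₁ (E f₁ f₂ M) = Curv2.euler k X ((Scheme.Modules.pullback f₂).obj M) :=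
    VarietyB.HHPush.euler_push f₁ k hf₁ _
      (Ega2.QCohLocal.isQCoh_of_isInvertible (isInvertible_pullback f₂ hM))
  have h2 := K335.FinFlatDeg.deg_pullback k hX₂.dim f₂ hf₂ 2 hr₂ M hM
  rw [Curv2.deg, euler_structure hX] at h2
  push_cast at h2
  rw [h1]
  linarith

include hX₁ hr₁ in
/-- `f₁_* f₂^* M` has rank two. -/
theorem rk_E [IrreducibleSpace P₁] {M : P₂.Modules} (hM : PicF.IsInvertible M) : rk (E f₁ f₂ M) = 2 := by
  have := hX₁.noeth
  have := K335.FinFlatDeg.lfp_of_isFinite f₁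
  rw [rk, finrank_push_inv f₁ (isInvertible_pullback f₂ hM), hr₁]

include hX₁ in
theorem isCoh_E {M : P₂.Modules} (hM : PicF.IsInvertible M) : Coh.IsCoh (E f₁ f₂ M) := by
  have := hX₁.noeth
  have hNX : IsLocallyNoetherian X := LocallyOfFiniteType.isLocallyNoetherian f₁
  exact Groth.Agent.S0019.result f₁ _ (S2329.isCoh_of_isInvertible (isInvertible_pullback f₂ hM))

include hX hX₁ hX₂ hf₁ hf₂ hr₁ hr₂ in
/-- **The inequality.** -/
theorem euler_ineq {M : P₂.Modules} (hM : PicF.IsInvertible M) (s : Fin 2 → Γ(M, ⊤)) [Mono (pairMap f₁ f₂ s)] :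
    (Curv2.genus k X : ℤ) ≤ 2 * Curv2.deg k P₂ M 1 - 1 + 2 * (Curv2.genus k P₁ : ℤ) ∧
      ((Curv2.genus k X : ℤ) = 2 * Curv2.deg k P₂ M 1 - 1 + 2 * (Curv2.genus k P₁ : ℤ) →
        IsIso (pairMap f₁ f₂ s)) := by
  have := hX₁.integral
  have := hX₁.proper
  have h0 := isFinLocFreeOfRank_freeMod P₁ 2
  obtain ⟨h1, h2⟩ := K321.SubLoc.euler_le_of_mono k hX₁.dim.le (pairMap f₁ f₂ s)
    (K321.SubLoc.isCoh_of_rank h0) (isCoh_E k hX₁ f₁ f₂ hM) (by
      rw [K321.SubLoc.rk_eq h0, rk_E k hX₁ f₁ f₂ hr₁ hM])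
  rw [euler_freeMod_two, euler_structure hX₁, euler_E k hX hX₂ f₁ hf₁ f₂ hf₂ hr₂ hM] at h1 h2
  exact ⟨by linarith, fun h3 => h2 (by linarith)⟩

end ineq

attribute [local instance] Curv2.stalkAlgebra

/-- **The equality case of the Castelnuovo–Severi inequality for two double covers.** -/
theorem main (k : Type u) [Field k] [IsAlgClosed k] (X : Scheme.{u}) [X.Over (Spec (CommRingCat.of k))]
    [IsIntegral X] [IsProper (X ↘ (Spec (CommRingCat.of k)))] (hX : IsCurve k X)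
    (γ : ℕ) (hg : Curv2.genus k X = 4 * γ + 1)
    (P₁ : Scheme.{u}) [P₁.Over (Spec (CommRingCat.of k))] [IsIntegral P₁] [IsProper (P₁ ↘ (Spec (CommRingCat.of k)))]
    (hX₁ : IsCurve k P₁) (hreg₁ : ∀ y : P₁, IsPrincipalIdealRing (P₁.presheaf.stalk y)) (hγ₁ : Curv2.genus k P₁ ≤ γ)
    (P₂ : Scheme.{u}) [P₂.Over (Spec (CommRingCat.of k))] [IsIntegral P₂] [IsProper (P₂ ↘ (Spec (CommRingCat.of k)))]
    (hX₂ : IsCurve k P₂) (hreg₂ : ∀ y : P₂, IsPrincipalIdealRing (P₂.presheaf.stalk y)) (hγ₂ : Curv2.genus k P₂ ≤ γ)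
    (f₁ : X ⟶ P₁) (hf₁ : f₁ ≫ (P₁ ↘ Spec (CommRingCat.of k)) = X ↘ Spec (CommRingCat.of k))
    [IsFinite f₁] [Flat f₁] (hr₁ : ∀ y : P₁, Scheme.Hom.finrank f₁ y = 2)
    (f₂ : X ⟶ P₂) (hf₂ : f₂ ≫ (P₂ ↘ Spec (CommRingCat.of k)) = X ↘ Spec (CommRingCat.of k))
    [IsFinite f₂] [Flat f₂] (hr₂ : ∀ y : P₂, Scheme.Hom.finrank f₂ y = 2)
    (hne : ¬ ∃ e : P₁ ≅ P₂, e.hom ≫ (P₂ ↘ Spec (CommRingCat.of k)) = (P₁ ↘ Spec (CommRingCat.of k)) ∧ f₁ ≫ e.hom = f₂) :
    Curv2.genus k P₁ = γ ∧ Curv2.genus k P₂ = γ ∧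
      ∃ (M : P₂.Modules) (_ : PicF.IsInvertible M) (a b : Γ(M, ⊤)),
        Curv2.deg k P₂ M 1 = γ + 1 ∧
        GoodPair (f₂ (genericPoint X)) k (K0 k f₁ f₂ hf₁ hf₂ (genericPoint X)) a b ∧
        IsIso (pairMap f₁ f₂ ![a, b]) := by
  have hN₁ : IsNoetherian P₁ := hX₁.noeth
  have hN₂ : IsNoetherian P₂ := hX₂.noeth
  have hlfp₁ := K335.FinFlatDeg.lfp_of_isFinite f₁
  have hlfp₂ := K335.FinFlatDeg.lfp_of_isFinite f₂
  have hs₁ : Surjective f₁ := (Scheme.Hom.one_le_finrank_iff_surjective f₁).1 fun y => by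
    rw [hr₁]
    exact one_le_two
  have hs₂ : Surjective f₂ := (Scheme.Hom.one_le_finrank_iff_surjective f₂).1 fun y => by
    rw [hr₂]
    exact one_le_two
  set η := genericPoint X with hη
  have hη₁ : f₁ η = genericPoint P₁ := K432.CurveNorm.map_genericPoint f₁
  have hη₂ : f₂ η = genericPoint P₂ := K432.CurveNorm.map_genericPoint f₂
  have hF₁ : IsField (P₁.presheaf.stalk (f₁ η)) := by
    rw [hη₁]
    exact Field.toIsField P₁.functionField
  have hF₂ : IsField (P₂.presheaf.stalk (f₂ η)) := by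
    rw [hη₂]
    exact Field.toIsField P₂.functionField
  have hinj₁ : Function.Injective (f₁.stalkMap η) := by
    let _ := hF₁.toField
    exact (f₁.stalkMap η).hom.injective
  let K₀ := K0 k f₁ f₂ hf₁ hf₂ η
  -- there is a function on `P₂` which does not come from `P₁`
  obtain ⟨y, hy⟩ : ∃ y, y ∉ K₀ := by
    by_contra hcon
    push Not at hcon
    have hv : ∀ z : P₁, ValuationRing (P₁.presheaf.stalk z) := fun z => by
      have := hreg₁ z
      infer_instance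
    obtain ⟨h, hh, hfh⟩ := K335.PairIso.exists_factor f₁ f₂ η rfl (X ↘ Spec (CommRingCat.of k))
      (P₁ ↘ Spec (CommRingCat.of k)) (P₂ ↘ Spec (CommRingCat.of k)) hf₁ hf₂ hv hη hη₁ hinj₁
      (fun y => (mem_K0 k f₁ f₂ hf₁ hf₂).1 (hcon y))
    have hiso := K335.PairIso.isIso_of_rank k hX₁.dim hX₂ f₁ hf₁ f₂ hf₂ 2 (by norm_num) hr₁ hr₂ h hh hfh
    exact hne ⟨asIso h, hh, hfh⟩
  have hsep : P₂.IsSeparated := by
    constructor
    have h6 : IsSeparated ((P₂ ↘ Spec (CommRingCat.of k)) ≫ Limits.terminal.from _) := inferInstance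
    rwa [Subsingleton.elim (Limits.terminal.from P₂) ((P₂ ↘ Spec (CommRingCat.of k)) ≫ Limits.terminal.from _)]
  obtain ⟨M₀, hM₀, a₀, b₀, h₀⟩ := exists_goodPair hX₂.dim hη₂ K₀ hy
  obtain ⟨M, hM⟩ := exists_minimal hX₂ K₀ hM₀ a₀ b₀ h₀
  obtain ⟨hMi, ⟨a, b, hab⟩, hmin⟩ := id hM
  have hdeg := deg_le hX₂ hreg₂ hη₂ K₀ (K0_inv k f₁ f₂ hf₁ hf₂ hF₁ hF₂) hM
  have hmono : Mono (pairMap f₁ f₂ ![a, b]) := by
    obtain ⟨V, hV, e, he, h1, h2⟩ := hab
    exact mono_pairMap f₁ f₂ η hη₁ hη₂ he hV a b h1 fun c hc => h2 c ((mem_K0 k f₁ f₂ hf₁ hf₂).2 hc)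
  obtain ⟨h1, h2⟩ := euler_ineq k hX hX₁ hX₂ f₁ hf₁ f₂ hf₂ hr₁ hr₂ hMi ![a, b]
  have hgen : (gen k P₂ : ℤ) = (Curv2.genus k P₂ : ℤ) := rfl
  rw [hgen] at hdeg
  have hγ₁' : (Curv2.genus k P₁ : ℤ) ≤ γ := by exact_mod_cast hγ₁
  have hγ₂' : (Curv2.genus k P₂ : ℤ) ≤ γ := by exact_mod_cast hγ₂
  have hg' : (Curv2.genus k X : ℤ) = 4 * γ + 1 := by exact_mod_cast hg
  refine ⟨by omega, by omega, M, hMi, a, b, by omega, hab, h2 (by omega)⟩

end K335.PairMain
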