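import Groth.Agent.Curves.K335.PairAlg
import Groth.Agent.Curves.K320.BaseFree
import Groth.Agent.Curves.K320.PointVal
import Groth.Agent.JacVar.K532.CurvePts
import Groth.Agent.Constr.K591.KerGG
import Groth.Agent.Curves.K320.DegTools

/-!
# Pairs of sections of least degree

On a smooth proper curve `P` over an algebraically closed field, let `K₀` be a subfield of the function field.  A pair of
sections of an invertible module is good if its ratio is not in `K₀`.

* `exists_pair`: if a good pair exists, then there is one on a module `M` with `h⁰(M) ≤ 2`, hence of degree at most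
  `genus + 1`.
-/

set_option autoImplicit false
universe u
open CategoryTheory CategoryTheory.Limits AlgebraicGeometry Opposite TopologicalSpace

namespace K335.PairMin

open Groth.Agent Groth.Agent.Fdesc.LocGen K320.PointVal K335.PairAlg Groth.Agent.CurvesB.HZero
open K532.CurvePic K532.CurvePts Groth.Agent.Grpsch.PicGrp

attribute [local instance] Curv2.stalkAlgebra

/-- The preimage of the maximal ideal has codimension at most one. -/
theorem finrank_le_comap {k A V : Type*} [Field k] [CommRing A] [IsLocalRing A] [Algebra k A]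
    (h : K320.ValDim.ResConst k A) [AddCommGroup V] [Module k V] [Module.Finite k V] (φ : V →ₗ[k] A) :
    Module.finrank k V ≤
      Module.finrank k (((IsLocalRing.maximalIdeal A).restrictScalars k).comap φ) + 1 := by
  set W := ((IsLocalRing.maximalIdeal A).restrictScalars k).comap φ with hW
  by_cases hT : W = ⊤
  · rw [hT, finrank_top]
    omega
  · obtain ⟨u, hu⟩ : ∃ u, u ∉ W := by
      by_contra hcon
      push Not at hcon
      exact hT (eq_top_iff.2 fun x _ => hcon x)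
    have h1 : W ⊔ Submodule.span k {u} = ⊤ := by
      rw [eq_top_iff]
      intro v _
      have hu' : IsUnit (φ u) := by
        by_contra hcon
        exact hu hcon
      obtain ⟨w, hw⟩ := hu'
      obtain ⟨c, hc⟩ := h (φ v * (↑w⁻¹ : A))
      have h2 : v - c • u ∈ W := by
        change φ (v - c • u) ∈ IsLocalRing.maximalIdeal A
        have h3 : φ (v - c • u) = (φ v * (↑w⁻¹ : A) - algebraMap k A c) * φ u := by
          rw [map_sub, map_smul, Algebra.smul_def, sub_mul, ← hw, mul_assoc, Units.inv_mul, mul_one]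
        rw [h3]
        exact Ideal.mul_mem_right _ _ hc
      have h4 : v = (v - c • u) + c • u := by rw [sub_add_cancel]
      rw [h4]
      exact Submodule.add_mem_sup h2 (Submodule.smul_mem _ _ (Submodule.mem_span_singleton_self u))
    have h2 := Submodule.finrank_add_le_finrank_add_finrank W (Submodule.span k {u})
    rw [h1, finrank_top] at h2
    have hu0 : u ≠ 0 := by
      rintro rfl
      exact hu W.zero_mem
    have h3 : Module.finrank k (Submodule.span k ({u} : Set V)) = 1 := finrank_span_singleton hu0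
    omega

theorem app_injective {X : Scheme.{u}} {M N : X.Modules} (φ : M ⟶ N) [Mono φ] (U : X.Opens) :
    Function.Injective (φ.app U) := by
  have h1 : Mono ((Scheme.Modules.toPresheaf X).map φ) := inferInstance
  have h2 : Mono (((Scheme.Modules.toPresheaf X).map φ).app (op U)) := inferInstance
  exact (AddCommGrpCat.mono_iff_injective _).1 h2

section hom

variable {P : Scheme.{u}} [IsIntegral P] (ξ : P)

/-- The germ at `ξ` of the coefficient of a section. -/
noncomputable def gc {M : P.Modules} {V : P.Opens} {e : Γ(M, V)} (he : IsGen e) (hV : ξ ∈ V) (s : Γ(M, ⊤)) :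
    P.presheaf.stalk ξ :=
  P.presheaf.germ V ξ hV (coeffU he s)

omit [IsIntegral P] in
/-- Morphisms multiply the coefficients by a fixed factor. -/
theorem exists_factor {F M : P.Modules} (i : F ⟶ M) {V : P.Opens} {e : Γ(M, V)} (he : IsGen e) (hV : ξ ∈ V)
    {V' : P.Opens} {e' : Γ(F, V')} (he' : IsGen e') (hV' : ξ ∈ V') :
    ∃ γ : P.presheaf.stalk ξ, ∀ s : Γ(F, ⊤), gc ξ he hV (i.app ⊤ s) = gc ξ he' hV' s * γ := by
  obtain ⟨g, hg⟩ := (he.res (inf_le_left : V ⊓ V' ≤ V)).exists_eq (i.app (V ⊓ V') (res F inf_le_right e'))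
  refine ⟨P.presheaf.germ (V ⊓ V') ξ ⟨hV, hV'⟩ g, fun s => ?_⟩
  have h1 : ores (inf_le_left : V ⊓ V' ≤ V) (coeffU he (i.app ⊤ s)) =
      ores (inf_le_right : V ⊓ V' ≤ V') (coeffU he' s) * g := by
    apply (he.res (inf_le_left : V ⊓ V' ≤ V)).ext
    rw [← res_smul, coeffU_smul_gen, res_res, mul_smul, ← hg, ← Scheme.Modules.Hom.app_smul, ← res_smul,
      coeffU_smul_gen, res_res]
    exact (app_res i _ s).symm
  have h2 := congrArg (P.presheaf.germ (V ⊓ V') ξ ⟨hV, hV'⟩) h1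
  rw [map_mul] at h2
  have h3 : P.presheaf.germ (V ⊓ V') ξ ⟨hV, hV'⟩ (ores (inf_le_left : V ⊓ V' ≤ V) (coeffU he (i.app ⊤ s))) =
      gc ξ he hV (i.app ⊤ s) := P.presheaf.germ_res_apply (homOfLE inf_le_left) ξ ⟨hV, hV'⟩ _
  have h4 : P.presheaf.germ (V ⊓ V') ξ ⟨hV, hV'⟩ (ores (inf_le_right : V ⊓ V' ≤ V') (coeffU he' s)) =
      gc ξ he' hV' s := P.presheaf.germ_res_apply (homOfLE inf_le_right) ξ ⟨hV, hV'⟩ _
  rw [h3, h4] at h2
  exact h2

variable (k : Type u) [Field k] [P.Over (Spec (CommRingCat.of k))] (K₀ : Subalgebra k (P.presheaf.stalk ξ))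

/-- Good pairs of sections. -/
def GoodPair {M : P.Modules} (a b : Γ(M, ⊤)) : Prop :=
  ∃ (V : P.Opens) (hV : ξ ∈ V) (e : Γ(M, V)) (he : IsGen e), Good K₀ (gc ξ he hV a) (gc ξ he hV b)

omit [IsIntegral P] in
theorem good_of_hom {F M : P.Modules} (i : F ⟶ M) {a b : Γ(F, ⊤)} (h : GoodPair ξ k K₀ (i.app ⊤ a) (i.app ⊤ b))
    {V' : P.Opens} {e' : Γ(F, V')} (he' : IsGen e') (hV' : ξ ∈ V') : Good K₀ (gc ξ he' hV' a) (gc ξ he' hV' b) := by
  obtain ⟨V, hV, e, he, h1, h2⟩ := h
  obtain ⟨γ, hγ⟩ := exists_factor ξ i he hV he' hV'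
  rw [hγ] at h1
  refine ⟨left_ne_zero_of_mul h1, fun c hc h3 => h2 c hc ?_⟩
  rw [hγ, hγ, h3, mul_assoc]

omit [IsIntegral P] in
theorem GoodPair.good {M : P.Modules} {a b : Γ(M, ⊤)} (h : GoodPair ξ k K₀ a b)
    {V' : P.Opens} {e' : Γ(M, V')} (he' : IsGen e') (hV' : ξ ∈ V') : Good K₀ (gc ξ he' hV' a) (gc ξ he' hV' b) :=
  good_of_hom ξ k K₀ (𝟙 M) h he' hV'

omit [IsIntegral P] in
theorem GoodPair.of_hom {F M : P.Modules} (hF : PicF.IsInvertible F) (i : F ⟶ M) {a b : Γ(F, ⊤)}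
    (h : GoodPair ξ k K₀ (i.app ⊤ a) (i.app ⊤ b)) : GoodPair ξ k K₀ a b := by
  obtain ⟨V, e, hV, he⟩ := (isInvertible_iff F).1 hF ξ
  exact ⟨V, hV, e, he, good_of_hom ξ k K₀ i h he hV⟩

/-- Good pairs are preserved by monomorphisms. -/
theorem GoodPair.map {F M : P.Modules} (hM : PicF.IsInvertible M) (i : F ⟶ M) [Mono i] {a b : Γ(F, ⊤)}
    (hdom : IsDomain (P.presheaf.stalk ξ)) (h : GoodPair ξ k K₀ a b) : GoodPair ξ k K₀ (i.app ⊤ a) (i.app ⊤ b) := by
  obtain ⟨V', hV', e', he', h1, h2⟩ := h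
  obtain ⟨V, e, hV, he⟩ := (isInvertible_iff M).1 hM ξ
  obtain ⟨γ, hγ⟩ := exists_factor ξ i he hV he' hV'
  have hγ0 : γ ≠ 0 := by
    rintro rfl
    have h3 := hγ b
    rw [mul_zero] at h3
    -- the section `i b` vanishes near `ξ`
    have h4 : coeffU he (i.app ⊤ b) = 0 :=
      AlgebraicGeometry.germ_injective_of_isIntegral P ξ hV (h3.trans (map_zero _).symm)
    have h5 : res M (le_top : V ⊓ V' ≤ ⊤) (i.app ⊤ b) = 0 := by
      have h6 := coeffU_smul_gen he (i.app ⊤ b)
      rw [h4, zero_smul] at h6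
      rw [← res_res M (le_top : V ≤ ⊤) inf_le_left, ← h6, map_zero]
    rw [← app_res] at h5
    have h7 : res F (le_top : V ⊓ V' ≤ ⊤) b = 0 :=
      (injective_iff_map_eq_zero _).1 (app_injective i (V ⊓ V')) _ h5
    apply h1
    rw [← res_res F (le_top : V' ≤ ⊤) inf_le_right, ← coeffU_smul_gen he' b, res_smul] at h7
    have h8 := (he'.res (inf_le_right : V ⊓ V' ≤ V')).ext (h7.trans (zero_smul _ _).symm)
    have h9 := congrArg (P.presheaf.germ (V ⊓ V') ξ ⟨hV, hV'⟩) h8
    rw [map_zero] at h9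
    exact (P.presheaf.germ_res_apply (homOfLE inf_le_right) ξ ⟨hV, hV'⟩ _).symm.trans h9
  refine ⟨V, hV, e, he, ?_, fun c hc h3 => ?_⟩
  · rw [hγ]
    exact mul_ne_zero h1 hγ0
  · rw [hγ, hγ, ← mul_assoc] at h3
    exact h2 c hc (mul_right_cancel₀ hγ0 h3)

theorem GoodPair.ne_zero {M : P.Modules} {a b : Γ(M, ⊤)} (h : GoodPair ξ k K₀ a b) : b ≠ 0 := by
  rintro rfl
  obtain ⟨V, hV, e, he, h1, h2⟩ := h
  apply h1
  have h3 : coeffU he (0 : Γ(M, ⊤)) = 0 := by
    apply he.ext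
    rw [coeffU_smul_gen, map_zero, zero_smul]
  rw [gc, h3, map_zero]

end hom

section main

variable {k : Type u} [Field k] [IsAlgClosed k] {P : Scheme.{u}} [P.Over (Spec (CommRingCat.of k))]
  [IsIntegral P] [IsProper (P ↘ (Spec (CommRingCat.of k)))] (hX : IsCurve k P)
  (hP : ∀ x : P, IsPrincipalIdealRing (P.presheaf.stalk x)) {ξ : P} (hξ : ξ = genericPoint P)
  (K₀ : Subalgebra k (P.presheaf.stalk ξ)) (hinv : ∀ c ∈ K₀, c ≠ 0 → ∃ d ∈ K₀, c * d = 1)

/-- The map given by two sections. -/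
noncomputable def two {M : P.Modules} (a b : Γ(M, ⊤)) : K320.BaseFree.fr P 2 ⟶ M := K320.BaseFree.des ![a, b]

omit [P.Over (Spec (CommRingCat.of k))] [IsProper (P ↘ (Spec (CommRingCat.of k)))] [IsIntegral P] in
/-- Generating pairs. -/
theorem mem_genLocus {M : P.Modules} (hM : PicF.IsInvertible M) {a b : Γ(M, ⊤)} (h : Epi (two a b)) (x : P) :
    x ∈ CohB1.genLocus M (homOf a) ∨ x ∈ CohB1.genLocus M (homOf b) := by
  let r : K320.BaseFree.fr P 2 ⟶ FlatMod.freeMod P 2 :=
    Sigma.desc (C := P.Modules) (f := fun _ : ULift.{u} (Fin 2) => Coh.structureModule P)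
      fun i => Sigma.ι (fun _ : Fin 2 => Coh.structureModule P) i.down
  let s : Fin 2 → (Coh.structureModule P ⟶ M) := fun j => homOf ((![a, b] : Fin 2 → Γ(M, ⊤)) j)
  have h1 : r ≫ (Sigma.desc s : FlatMod.freeMod P 2 ⟶ M) = two a b := by
    refine Sigma.hom_ext (C := P.Modules) (f := fun _ : ULift.{u} (Fin 2) => Coh.structureModule P) _ _ fun i => ?_
    have h2 : K320.BaseFree.inc P i.down ≫ r = Sigma.ι (fun _ : Fin 2 => Coh.structureModule P) i.down :=
      Sigma.ι_desc (C := P.Modules) (f := fun _ : ULift.{u} (Fin 2) => Coh.structureModule P)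
        (fun i => Sigma.ι (fun _ : Fin 2 => Coh.structureModule P) i.down) i
    have h3 := K320.BaseFree.inc_des (![a, b] : Fin 2 → Γ(M, ⊤)) i.down
    have h4 : K320.BaseFree.inc P i.down ≫ (r ≫ (Sigma.desc s : FlatMod.freeMod P 2 ⟶ M)) =
        homOf ((![a, b] : Fin 2 → Γ(M, ⊤)) i.down) := by
      rw [← Category.assoc, h2]
      exact Sigma.ι_desc s i.down
    exact h4.trans h3.symm
  have h2 : Epi (Sigma.desc s : FlatMod.freeMod P 2 ⟶ M) := by
    rw [← h1] at h
    exact epi_of_epi r _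
  have h3 := K591.KerGG.iSup_genLocus hM s h2
  have h4 : x ∈ ⨆ i, CohB1.genLocus M (s i) := by
    rw [h3]
    trivial
  rw [Opens.mem_iSup] at h4
  obtain ⟨i, hi⟩ := h4
  fin_cases i
  · exact Or.inl hi
  · exact Or.inr hi

omit [IsIntegral P] [IsProper (P ↘ Spec (CommRingCat.of k))] in
theorem notMem_maximalIdeal {M : P.Modules} {a : Γ(M, ⊤)} {x : P}
    (hx : x ∈ CohB1.genLocus M (homOf a)) {V : P.Opens} {e : Γ(M, V)} (he : IsGen e) (hV : x ∈ V) :
    P.presheaf.germ V x hV (coeffU he a) ∉ IsLocalRing.maximalIdeal (P.presheaf.stalk x) := by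
  have h1 : CohB1.genLocus M (homOf a) ⊓ V = P.basicOpen (coeffU he a) :=
    genLocus_inf_eq _ he (by rw [sec_homOf, coeffU_smul_gen])
  have h2 : x ∈ P.basicOpen (coeffU he a) := by
    rw [← h1]
    exact ⟨hx, hV⟩
  rw [P.mem_basicOpen _ _ hV] at h2
  exact fun h3 => h3 h2

include hX in
theorem deg_nonneg_of {M : P.Modules} (hM : PicF.IsInvertible M) {a : Γ(M, ⊤)} (ha : a ≠ 0) :
    0 ≤ Curv2.deg k P M 1 := by
  apply K320.DegTools.deg_nonneg k hX.dim hM
  refine ⟨(equivAdd M).symm a, 0, fun h => ha ?_⟩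
  have := congrArg (equivAdd M) h
  rwa [AddEquiv.apply_symm_apply, map_zero] at this

/-- `M` carries a good pair and has the least possible degree. -/
def Minimal (M : P.Modules) : Prop :=
  PicF.IsInvertible M ∧ (∃ a b : Γ(M, ⊤), GoodPair ξ k K₀ a b) ∧ ∀ (F : P.Modules), PicF.IsInvertible F →
    ∀ a b : Γ(F, ⊤), GoodPair ξ k K₀ a b → Curv2.deg k P M 1 ≤ Curv2.deg k P F 1

include hX in
theorem exists_minimal {M₀ : P.Modules} (hM₀ : PicF.IsInvertible M₀) (a₀ b₀ : Γ(M₀, ⊤)) (h₀ : GoodPair ξ k K₀ a₀ b₀) :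
    ∃ M : P.Modules, Minimal K₀ M := by
  classical
  let S : Set ℕ := {n | ∃ M : P.Modules, PicF.IsInvertible M ∧ (∃ a b : Γ(M, ⊤), GoodPair ξ k K₀ a b) ∧
    Curv2.deg k P M 1 = n}
  have hS : ∃ n, n ∈ S := by
    have h1 := deg_nonneg_of hX hM₀ (h₀.ne_zero ξ k K₀)
    exact ⟨(Curv2.deg k P M₀ 1).toNat, M₀, hM₀, ⟨a₀, b₀, h₀⟩, (Int.toNat_of_nonneg h1).symm⟩
  obtain ⟨M, hM, hab, hd⟩ := Nat.find_spec hS
  refine ⟨M, hM, hab, fun F hF a b h => ?_⟩
  have h1 := deg_nonneg_of hX hF (h.ne_zero ξ k K₀)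
  have h2 : (Curv2.deg k P F 1).toNat ∈ S := ⟨F, hF, ⟨a, b, h⟩, (Int.toNat_of_nonneg h1).symm⟩
  have h3 := Nat.find_min' hS h2
  rw [hd]
  omega

include hX hP in
/-- Good pairs of least degree generate. -/
theorem epi_two {M : P.Modules} (hM : Minimal K₀ M) {a b : Γ(M, ⊤)} (h : GoodPair ξ k K₀ a b) : Epi (two a b) := by
  have hnoeth : IsNoetherian P := hX.noeth
  obtain ⟨hMi, -, hmin⟩ := hM
  have hcM : Coh.IsCoh M := S2329.isCoh_of_isInvertible hMi
  obtain ⟨F, p, i, s', hp, hi, hpi, hs', hF⟩ := K320.BaseFree.exists_image hP hMi ![a, b]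
    ⟨1, h.ne_zero ξ k K₀⟩
  have hcF : Coh.IsCoh F := S2329.isCoh_of_isInvertible hF
  have h0 : i.app ⊤ (s' 0) = a := hs' 0
  have h1 : i.app ⊤ (s' 1) = b := hs' 1
  have hg : GoodPair ξ k K₀ (s' 0) (s' 1) := GoodPair.of_hom ξ k K₀ hF i (by rw [h0, h1]; exact h)
  obtain ⟨h3, h4⟩ := K321.SubLoc.euler_le_of_mono k hX.dim.le i hcF hcM (by
    rw [K321.SubLoc.rk_eq (Ega2.QCohLocal.isFinLocFreeOfRank_one_iff.2 hMi),
      K321.SubLoc.rk_eq (Ega2.QCohLocal.isFinLocFreeOfRank_one_iff.2 hF)])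
  have h5 := hmin F hF _ _ hg
  have h6 : IsIso i := h4 (by
    rw [Curv2.deg, Curv2.deg] at h5
    omega)
  change Epi (K320.BaseFree.des ![a, b])
  rw [← hpi]
  exact epi_comp _ _

include hX hP hξ hinv in
/-- `h⁰ ≤ 2` for the modules of least degree with good pairs. -/
theorem finrank_le_two {M : P.Modules} (hM : Minimal K₀ M) : Module.finrank k (Coh.HH P M 0) ≤ 2 := by
  by_contra hcon
  obtain ⟨hMi, ⟨a, b, hab⟩, hmin⟩ := id hM
  have hfin := finite_HH hX hMi 0
  have hdom : IsDomain (P.presheaf.stalk ξ) := inferInstance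
  obtain ⟨V, hV, e, he, hgood⟩ := id hab
  choose U f hU hf using fun x : P => (isInvertible_iff M).1 hMi x
  let H : KPt k P → Submodule k (Coh.HH P M 0) := fun Q =>
    ((IsLocalRing.maximalIdeal (P.presheaf.stalk (pnt Q))).restrictScalars k).comap
      (toStalk k (hf (pnt Q)) (pnt Q) (hU (pnt Q)))
  have key := not_good K₀ hinv (toStalk k he ξ hV) (toStalk_injective k hMi he ξ hV) H ?_ ?_ ?_ (by omega)
    ((equivAdd M).symm a) ((equivAdd M).symm b)
  · apply key
    rw [toStalk_apply, toStalk_apply, AddEquiv.apply_symm_apply, AddEquiv.apply_symm_apply]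
    exact hgood
  · intro Q
    have : LocallyOfFiniteType (P ↘ Spec (CommRingCat.of k)) := inferInstance
    exact finrank_le_comap (resConst_stalk k (pnt Q) (isClosed_pnt hX Q)) _
  · intro c hc
    have hc' : equivAdd M c ≠ 0 := (map_ne_zero_iff _ (equivAdd M).injective).2 hc
    have h1 : CohB1.genLocus M (homOf (equivAdd M c)) ≠ ⊥ := by
      intro h2
      have h3 : CohB1.genLocus M (homOf (equivAdd M c)) ⊓ V = P.basicOpen (coeffU he (equivAdd M c)) :=
        genLocus_inf_eq _ he (by rw [sec_homOf, coeffU_smul_gen])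
      rw [h2, bot_inf_eq] at h3
      have h4 := (basicOpen_eq_bot_iff _).1 h3.symm
      apply hc
      apply toStalk_injective k hMi he ξ hV
      rw [toStalk_apply, h4, map_zero, map_zero]
    have h2 : ((CohB1.genLocus M (homOf (equivAdd M c)) : P.Opens) : Set P).Nonempty := by
      rw [Set.nonempty_iff_ne_empty]
      intro h3
      exact h1 (Opens.ext h3)
    obtain ⟨Q, hQ⟩ := exists_kpt hX _ h2
    refine ⟨Q, fun h3 => ?_⟩
    exact notMem_maximalIdeal hQ (hf (pnt Q)) (hU (pnt Q)) h3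
  · intro Q c hc d hd hcd
    rw [toStalk_apply, toStalk_apply] at hcd
    have h1 : GoodPair ξ k K₀ (equivAdd M c) (equivAdd M d) := ⟨V, hV, e, he, hcd⟩
    rcases mem_genLocus hMi (epi_two hX hP K₀ hM h1) (pnt Q) with h2 | h2
    · exact notMem_maximalIdeal h2 (hf (pnt Q)) (hU (pnt Q)) hc
    · exact notMem_maximalIdeal h2 (hf (pnt Q)) (hU (pnt Q)) hd

include hX hP hξ hinv in
/-- The degree is at most `genus + 1`. -/
theorem deg_le {M : P.Modules} (hM : Minimal K₀ M) : Curv2.deg k P M 1 ≤ gen k P + 1 := by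
  have h1 := finrank_le_two hX hP hξ K₀ hinv hM
  have h2 := rr hX (mk M hM.1)
  rw [h_mk k P 0 hM.1, deg_mk k P hX.dim hM.1] at h2
  have h3 : (0 : ℤ) ≤ h k P 1 (mk M hM.1) := by positivity
  omega

end main

end K335.PairMin
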