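import Groth.Agent.Curves.K335.PairAlg
import Groth.Agent.Curves.K320.PointVal
import Groth.Agent.Constr.K591.KerGG
import Groth.Agent.Dcoh.FlatTor

/-!
# Pairs of sections independent over the function field of another curve

For morphisms `f₁ : X ⟶ P₁`, `f₂ : X ⟶ P₂` of integral schemes with `f₁` dominant:

* `K0`: the germs at the generic point of `P₂` whose pullback to `X` comes from `P₁`;
* `mono_pairMap`: two sections `a, b` of an invertible module `M` on `P₂` independent over `K0` define a monomorphism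
  `O² → f₁_* f₂^* M`.
-/

set_option autoImplicit false
universe u
open CategoryTheory CategoryTheory.Limits AlgebraicGeometry Opposite TopologicalSpace

namespace K335.Pair

open Groth.Agent Groth.Agent.Fdesc.LocGen K320.PointVal K335.PairAlg

attribute [local instance] Curv2.stalkAlgebra

/-- The constants in the local rings are compatible with pull-back. -/
theorem stalkMap_stalkMap (k : Type u) [Field k] {X Y : Scheme.{u}} [X.Over (Spec (CommRingCat.of k))]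
    [Y.Over (Spec (CommRingCat.of k))] (f : X ⟶ Y) (hf : f ≫ (Y ↘ Spec (CommRingCat.of k)) = X ↘ Spec (CommRingCat.of k))
    (x : X) (c : k) : f.stalkMap x (Curv2.stalkMap k Y (f x) c) = Curv2.stalkMap k X x c := by
  have h1 : f.stalkMap x (Y.presheaf.germ ⊤ (f x) trivial (Coh.toGlobal (Y ↘ Spec (CommRingCat.of k)) c)) =
      X.presheaf.germ (f ⁻¹ᵁ ⊤) x trivial (f.app ⊤ (Coh.toGlobal (Y ↘ Spec (CommRingCat.of k)) c)) :=
    Scheme.Hom.germ_stalkMap_apply f ⊤ x trivial _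
  refine h1.trans ?_
  have h2 : f.app ⊤ (Coh.toGlobal (Y ↘ Spec (CommRingCat.of k)) c) = Coh.toGlobal (X ↘ Spec (CommRingCat.of k)) c := by
    rw [← hf]
    rfl
  rw [h2]
  rfl

section K0

variable (k : Type u) [Field k] {X P₁ P₂ : Scheme.{u}} [X.Over (Spec (CommRingCat.of k))]
  [P₁.Over (Spec (CommRingCat.of k))] [P₂.Over (Spec (CommRingCat.of k))] (f₁ : X ⟶ P₁) (f₂ : X ⟶ P₂)
  (hf₁ : f₁ ≫ (P₁ ↘ Spec (CommRingCat.of k)) = X ↘ Spec (CommRingCat.of k))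
  (hf₂ : f₂ ≫ (P₂ ↘ Spec (CommRingCat.of k)) = X ↘ Spec (CommRingCat.of k))

/-- The germs on `P₂` whose pull-back to `X` comes from `P₁`. -/
noncomputable def K0 (x : X) : Subalgebra k (P₂.presheaf.stalk (f₂ x)) where
  carrier := {y | ∃ a : P₁.presheaf.stalk (f₁ x), f₁.stalkMap x a = f₂.stalkMap x y}
  mul_mem' := by
    rintro y z ⟨a, ha⟩ ⟨b, hb⟩
    exact ⟨a * b, by rw [map_mul, map_mul, ha, hb]⟩
  add_mem' := by
    rintro y z ⟨a, ha⟩ ⟨b, hb⟩
    exact ⟨a + b, by rw [map_add, map_add, ha, hb]⟩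
  algebraMap_mem' := fun c => ⟨Curv2.stalkMap k P₁ (f₁ x) c, by
    rw [stalkMap_stalkMap k f₁ hf₁]
    exact (stalkMap_stalkMap k f₂ hf₂ x c).symm⟩

theorem mem_K0 {x : X} {y : P₂.presheaf.stalk (f₂ x)} : y ∈ K0 k f₁ f₂ hf₁ hf₂ x ↔
    ∃ a : P₁.presheaf.stalk (f₁ x), f₁.stalkMap x a = f₂.stalkMap x y := Iff.rfl

theorem K0_inv {x : X} (h₁ : IsField (P₁.presheaf.stalk (f₁ x))) (h₂ : IsField (P₂.presheaf.stalk (f₂ x))) :
    ∀ c ∈ K0 k f₁ f₂ hf₁ hf₂ x, c ≠ 0 → ∃ d ∈ K0 k f₁ f₂ hf₁ hf₂ x, c * d = 1 := by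
  rintro c ⟨a, ha⟩ hc
  obtain ⟨d, hd⟩ := h₂.mul_inv_cancel hc
  have h3 : f₁.stalkMap x a * f₂.stalkMap x d = 1 := by
    rw [ha, ← map_mul, hd, map_one]
  have ha0 : a ≠ 0 := by
    rintro rfl
    rw [map_zero, zero_mul] at h3
    exact zero_ne_one h3
  obtain ⟨b, hb⟩ := h₁.mul_inv_cancel ha0
  refine ⟨d, ⟨b, ?_⟩, hd⟩
  have h4 : f₁.stalkMap x a * f₁.stalkMap x b = 1 := by rw [← map_mul, hb, map_one]
  calc f₁.stalkMap x b = f₁.stalkMap x b * (f₁.stalkMap x a * f₂.stalkMap x d) := by rw [h3, mul_one]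
    _ = (f₁.stalkMap x a * f₁.stalkMap x b) * f₂.stalkMap x d := by ring
    _ = f₂.stalkMap x d := by rw [h4, one_mul]

end K0

section Mono

variable {X P₁ P₂ : Scheme.{u}} (f₁ : X ⟶ P₁) (f₂ : X ⟶ P₂)

/-- The module `f₁_* f₂^* M`. -/
noncomputable abbrev E (M : P₂.Modules) : P₁.Modules :=
  (Scheme.Modules.pushforward f₁).obj ((Scheme.Modules.pullback f₂).obj M)

/-- Sections of `M` as sections of `f₁_* f₂^* M`. -/
noncomputable def pl {M : P₂.Modules} (s : Γ(M, ⊤)) : Γ(E f₁ f₂ M, ⊤) :=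
  show Γ((Scheme.Modules.pullback f₂).obj M, ⊤) from pullTop f₂ s

/-- The map `O² → f₁_* f₂^* M` given by two sections of `M`. -/
noncomputable def pairMap {M : P₂.Modules} (s : Fin 2 → Γ(M, ⊤)) : FlatMod.freeMod P₁ 2 ⟶ E f₁ f₂ M :=
  Sigma.desc fun j => homOf (pl f₁ f₂ (s j))

theorem pairMap_bs {M : P₂.Modules} (s : Fin 2 → Γ(M, ⊤)) (V : P₁.Opens) (j : Fin 2) :
    (pairMap f₁ f₂ s).app V (K591.KerGG.bs P₁ 2 V j) = res _ le_top (pl f₁ f₂ (s j)) := by
  rw [pairMap, K591.KerGG.app_bs, sec_homOf]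

theorem germ_app {Y : Scheme.{u}} (f : X ⟶ Y) (U : Y.Opens) (x : X) (hx : f x ∈ U) (W : X.Opens) (hxW : x ∈ W)
    (hW : W ≤ f ⁻¹ᵁ U) (a : Γ(Y, U)) :
    X.presheaf.germ W x hxW (ores hW (f.app U a)) = f.stalkMap x (Y.presheaf.germ U (f x) hx a) := by
  rw [Scheme.Hom.germ_stalkMap_apply]
  exact X.presheaf.germ_res_apply (homOfLE hW) x hxW _

theorem mono_pairMap [IsIntegral X] [IsIntegral P₁] [IsIntegral P₂] {M : P₂.Modules} (x : X)
    (hx₁ : f₁ x = genericPoint P₁) (hx₂ : f₂ x = genericPoint P₂) {V : P₂.Opens} {e : Γ(M, V)} (he : IsGen e)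
    (hxV : f₂ x ∈ V) (a b : Γ(M, ⊤)) (hb : P₂.presheaf.germ V (f₂ x) hxV (coeffU he b) ≠ 0)
    (hab : ∀ (c : P₂.presheaf.stalk (f₂ x)), (∃ d : P₁.presheaf.stalk (f₁ x), f₁.stalkMap x d = f₂.stalkMap x c) →
      P₂.presheaf.germ V (f₂ x) hxV (coeffU he a) ≠ c * P₂.presheaf.germ V (f₂ x) hxV (coeffU he b)) :
    Mono (pairMap f₁ f₂ ![a, b]) := by
  have hF₁ : IsField (P₁.presheaf.stalk (f₁ x)) := by
    rw [hx₁]
    exact Field.toIsField P₁.functionField
  have hF₂ : IsField (P₂.presheaf.stalk (f₂ x)) := by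
    rw [hx₂]
    exact Field.toIsField P₂.functionField
  apply Dcoh.FlatTor.mono_of_app_injective
  intro U
  rw [injective_iff_map_eq_zero]
  intro t ht
  obtain ⟨c, rfl⟩ := K591.KerGG.sum_bs t
  suffices hc : c 0 = 0 ∧ c 1 = 0 by
    rw [Fin.sum_univ_two, hc.1, hc.2, zero_smul, zero_smul, add_zero]
  rw [Fin.sum_univ_two, map_add, Scheme.Modules.Hom.app_smul, Scheme.Modules.Hom.app_smul, pairMap_bs, pairMap_bs] at ht
  by_cases hU : f₁ x ∈ U
  swap
  · have hU' : U = ⊥ := by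
      rw [eq_bot_iff]
      intro y hy
      exact absurd ((hx₁ ▸ (genericPoint_specializes y).mem_open U.2 hy : f₁ x ∈ U)) hU
    subst hU'
    exact ⟨Subsingleton.elim _ _, Subsingleton.elim _ _⟩
  -- pass to a neighbourhood of `x` on which the pull-back of `e` is defined
  let W : X.Opens := f₁ ⁻¹ᵁ U ⊓ f₂ ⁻¹ᵁ V
  have hxW : x ∈ W := ⟨hU, hxV⟩
  have hW₁ : W ≤ f₁ ⁻¹ᵁ U := inf_le_left
  have hW₂ : W ≤ f₂ ⁻¹ᵁ V := inf_le_right
  let e' : Γ((Scheme.Modules.pullback f₂).obj M, W) := res _ hW₂ (pullSec f₂ e)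
  have he' : IsGen e' := (he.pullSec f₂).res hW₂
  have key : ∀ s : Γ(M, ⊤), res ((Scheme.Modules.pullback f₂).obj M) hW₁
      (show Γ((Scheme.Modules.pullback f₂).obj M, f₁ ⁻¹ᵁ U) from
        res (E f₁ f₂ M) (le_top : U ≤ ⊤) (pl f₁ f₂ s)) = ores hW₂ (f₂.app V (coeffU he s)) • e' := by
    intro s
    have h1 : res ((Scheme.Modules.pullback f₂).obj M) hW₁
      (show Γ((Scheme.Modules.pullback f₂).obj M, f₁ ⁻¹ᵁ U) from
        res (E f₁ f₂ M) (le_top : U ≤ ⊤) (pl f₁ f₂ s)) =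
        res ((Scheme.Modules.pullback f₂).obj M) (le_top : W ≤ ⊤) (pullTop f₂ s) :=
      res_res _ (le_top : f₁ ⁻¹ᵁ U ≤ ⊤) hW₁ _
    have h2 : res ((Scheme.Modules.pullback f₂).obj M) (le_top : W ≤ ⊤) (pullTop f₂ s) =
        res ((Scheme.Modules.pullback f₂).obj M) hW₂ (pullSec f₂ (res M (le_top : V ≤ ⊤) s)) := by
      rw [← res_pullSec f₂ (le_top : V ≤ ⊤) s, res_res]
      rfl
    rw [h1, h2, ← coeffU_smul_gen he s, pullSec_smul, res_smul]
  have h3 := congrArg (fun m : Γ(E f₁ f₂ M, U) => res ((Scheme.Modules.pullback f₂).obj M) hW₁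
    (show Γ((Scheme.Modules.pullback f₂).obj M, f₁ ⁻¹ᵁ U) from m)) ht
  have h4 : ores hW₁ (f₁.app U (c 0)) • (ores hW₂ (f₂.app V (coeffU he a)) • e') +
      ores hW₁ (f₁.app U (c 1)) • (ores hW₂ (f₂.app V (coeffU he b)) • e') = 0 := by
    rw [← key a, ← key b]
    refine Eq.trans ?_ (h3.trans (map_zero (res ((Scheme.Modules.pullback f₂).obj M) hW₁)))
    symm
    refine (map_add (res ((Scheme.Modules.pullback f₂).obj M) hW₁) _ _).trans ?_
    congr 1
    · exact res_smul _ hW₁ (f₁.app U (c 0)) _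
    · exact res_smul _ hW₁ (f₁.app U (c 1)) _
  rw [smul_smul, smul_smul, ← add_smul] at h4
  have h5 := he'.ext (h4.trans (zero_smul _ _).symm)
  have h6 := congrArg (X.presheaf.germ W x hxW) h5
  rw [map_add, map_mul, map_mul, map_zero, germ_app f₁ U x hU W hxW hW₁, germ_app f₁ U x hU W hxW hW₁,
    germ_app f₂ V x hxV W hxW hW₂, germ_app f₂ V x hxV W hxW hW₂] at h6
  set α := P₂.presheaf.germ V (f₂ x) hxV (coeffU he a)
  set β := P₂.presheaf.germ V (f₂ x) hxV (coeffU he b)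
  have h7 : P₁.presheaf.germ U (f₁ x) hU (c 0) = 0 := by
    by_contra hne
    obtain ⟨d, hd⟩ := hF₁.mul_inv_cancel hne
    obtain ⟨β', hβ'⟩ := hF₂.mul_inv_cancel hb
    refine hab (α * β') ⟨-(d * P₁.presheaf.germ U (f₁ x) hU (c 1)), ?_⟩ ?_
    · have h8 : f₁.stalkMap x (P₁.presheaf.germ U (f₁ x) hU (c 0)) * f₁.stalkMap x d = 1 := by
        rw [← map_mul, hd, map_one]
      have h9 : f₂.stalkMap x β * f₂.stalkMap x β' = 1 := by rw [← map_mul, hβ', map_one]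
      rw [map_neg, map_mul, map_mul]
      linear_combination (-f₁.stalkMap x d * f₂.stalkMap x β') * h6 +
        (f₂.stalkMap x α * f₂.stalkMap x β') * h8 +
        (f₁.stalkMap x d * f₁.stalkMap x (P₁.presheaf.germ U (f₁ x) hU (c 1))) * h9
    · linear_combination (-α) * hβ'
  rw [h7, map_zero, zero_mul, zero_add] at h6
  have h10 : P₁.presheaf.germ U (f₁ x) hU (c 1) = 0 := by
    by_contra hne
    obtain ⟨d, hd⟩ := hF₁.mul_inv_cancel hne
    obtain ⟨β', hβ'⟩ := hF₂.mul_inv_cancel hb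
    have h8 : f₁.stalkMap x (P₁.presheaf.germ U (f₁ x) hU (c 1)) * f₁.stalkMap x d = 1 := by
      rw [← map_mul, hd, map_one]
    have h9 : f₂.stalkMap x β * f₂.stalkMap x β' = 1 := by rw [← map_mul, hβ', map_one]
    apply one_ne_zero (α := X.presheaf.stalk x)
    linear_combination (f₁.stalkMap x d * f₂.stalkMap x β') * h6 -
      (f₂.stalkMap x β * f₂.stalkMap x β') * h8 - h9
  constructor
  · exact AlgebraicGeometry.germ_injective_of_isIntegral P₁ (f₁ x) hU (h7.trans (map_zero _).symm)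
  · exact AlgebraicGeometry.germ_injective_of_isIntegral P₁ (f₁ x) hU (h10.trans (map_zero _).symm)

end Mono

end K335.Pair
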