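import Groth.Prelude.Def_FinCov
import Groth.Agent.Curves.K335.FreeNhd
import Groth.Agent.PerfB.ModExact

/-!
# The trace of a finite flat morphism of constant rank `n` is surjective when `n` is invertible
-/

set_option autoImplicit false
universe u
open CategoryTheory CategoryTheory.Limits AlgebraicGeometry Opposite

namespace K335.TraceSurj

variable {X Y : Scheme.{u}} (h : X ⟶ Y)

theorem epi_of_isTraceHom [IsFinite h] [Flat h] [LocallyOfFinitePresentation h] (n : ℕ)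
    (hr : ∀ y : Y, h.finrank y = n) (hn : ∀ U : Y.Opens, IsUnit (n : Γ(Y, U)))
    (τ : (Scheme.Modules.pushforward h).obj (Coh.structureModule X) ⟶ Coh.structureModule Y)
    (hτ : FinCov.IsTraceHom h τ) : Epi τ := by
  refine Groth.Agent.PerfB.ModExact.epi_of_locally_surjective _ ?_
  intro U s y hy
  obtain ⟨V, hVU, hyV, hV, hfree, hfin⟩ := FreeNhd.exists_free_nhd h U y hy
  let _ : Algebra Γ(Y, V) Γ(X, h ⁻¹ᵁ V) := (h.app V).hom.toAlgebra
  obtain ⟨c, hc⟩ := (hn V).exists_left_inv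
  let t : Γ(Y, V) := Y.presheaf.map (homOfLE hVU).op s
  refine ⟨V, hVU, hyV, (h.app V).hom (c * t), ?_⟩
  refine (hτ V hV hfree hfin ((h.app V).hom (c * t))).trans ?_
  have hne : Nonempty V := ⟨⟨y, hyV⟩⟩
  have : Nontrivial Γ(Y, V) := inferInstance
  have h1 := Algebra.trace_algebraMap (R := Γ(Y, V)) (S := Γ(X, h ⁻¹ᵁ V)) (c * t)
  refine h1.trans ?_
  have h2 : Module.finrank Γ(Y, V) Γ(X, h ⁻¹ᵁ V) = h.finrank y := FreeNhd.finrank_eq h hV ⟨y, hyV⟩ hfree
  rw [hr] at h2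
  rw [h2, nsmul_eq_mul, ← mul_assoc, mul_comm (n : Γ(Y, V)) c, hc, one_mul]
  rfl

end K335.TraceSurj
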