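import Groth.Agent.Sga67.CMReg
import Groth.Agent.VarietyB.ProjForm
import Groth.Agent.VarietyB.GenLocusTensor
import Groth.Agent.CurvesC.ProjClosed
import Groth.Agent.CurvesC.GenPt
import Groth.Agent.Sga5.AmpleFib
import Groth.Agent.S2336
import Groth.Agent.S0012
import Groth.Agent.S0002
import Groth.Agent.CohqB.HSeqMod
import Groth.Agent.S2329
import Groth.Agent.CurvesB.HZero

/-!
# Ample globally generated invertible modules are very ample when `H^1(O) = 0` and `H^q = 0` for `q ≥ 2`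

`exists_closedImmersion`: `X` proper over a Noetherian ring `A`, `H^q(X, M) = 0` for `M` quasi-coherent and `q ≥ 2`,
`H^1(X, O_X) = 0`, `L` ample and globally generated: there is a closed immersion `i : X ⟶ P^n_A` over `A` with
`i^* O(1) ≅ L`. The direct image of `O_X` on `P^n_A` is `1`-regular.
-/

set_option autoImplicit false
universe u
open CategoryTheory CategoryTheory.Limits AlgebraicGeometry Opposite TopologicalSpace

namespace K335.VeryAmpleA

open Groth.Agent Groth.Agent.CurvesC.Gen Groth.Agent.CurvesC.ProjSpaceBasic Groth.Agent.CurvesC.ProjMap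
  Groth.Agent.CurvesC.ProjClosed

/-- Sections spanning `Γ(X, L)` over the base ring generate the globally generated module `L`. -/
theorem iSup_genLocus_eq_top {A : Type u} [CommRing A] {X : Scheme.{u}} (g : X ⟶ Spec (CommRingCat.of A))
    {L : X.Modules} (hL : PicF.IsInvertible L) (hg : Curv2.IsGloballyGenerated L) {n : ℕ}
    (s : Fin (n + 1) → (Coh.structureModule X ⟶ L))
    (hs : ∀ t : Γ(L, ⊤), ∃ c : Fin (n + 1) → A, t = ∑ j, struct g ⊤ (c j) • sec (s j) ⊤) :
    ⨆ i, CohB1.genLocus L (s i) = ⊤ := by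
  rw [eq_top_iff]
  intro x _
  obtain ⟨t, hx⟩ := Groth.Agent.VarietyB.GenLocusTensor.exists_mem_genLocus hL hg x
  obtain ⟨c, hc⟩ := hs (sec t ⊤)
  have he : IsGen L (CohB1.genLocus L t) (sec t (CohB1.genLocus L t)) := isGen_genLocus t
  choose a ha using fun j => he.exists_eq (sec (s j) (CohB1.genLocus L t))
  have h1 : (∑ j, struct g (CohB1.genLocus L t) (c j) * a j) • sec t (CohB1.genLocus L t) =
      (1 : Γ(X, CohB1.genLocus L t)) • sec t (CohB1.genLocus L t) := by
    rw [one_smul, Finset.sum_smul]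
    have h2 := congrArg (L.presheaf.map (homOfLE (le_top : CohB1.genLocus L t ≤ ⊤)).op) hc
    rw [map_sec, map_sum] at h2
    refine Eq.trans ?_ h2.symm
    refine Finset.sum_congr rfl fun j _ => ?_
    rw [mul_smul, ha, map_smul_section, map_struct, map_sec]
  have h2 := he.injective h1
  have h3 : ∃ j, x ∈ X.basicOpen (a j) := by
    by_contra hcon
    push Not at hcon
    have h4 := congrArg (X.presheaf.germ (CohB1.genLocus L t) x hx) h2
    rw [map_sum, map_one] at h4
    have h5 : ∑ j, X.presheaf.germ (CohB1.genLocus L t) x hx (struct g (CohB1.genLocus L t) (c j) * a j) ∈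
        IsLocalRing.maximalIdeal (X.presheaf.stalk x) := by
      refine Ideal.sum_mem _ fun j _ => ?_
      rw [map_mul]
      refine Ideal.mul_mem_left _ _ ?_
      rw [IsLocalRing.mem_maximalIdeal, mem_nonunits_iff, ← Scheme.mem_basicOpen _ _ _ hx]
      exact hcon j
    rw [h4] at h5
    exact (Ideal.ne_top_iff_one _).1 (IsLocalRing.maximalIdeal.isMaximal _).ne_top h5
  obtain ⟨j, hj⟩ := h3
  exact Opens.mem_iSup.2 ⟨j, (Groth.Agent.CurvesC.GenPt.mem_genLocus_iff he (s j) (ha j) hx).2 hj⟩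

variable {R : Type u} [CommRing R] {n : ℕ} {X : Scheme.{u}}

/-- `(φ_* O_X)(a) ≅ φ_* φ^* O(a)`. -/
noncomputable def twistIso (φ : X ⟶ CohB1.ProjSpace n R) (a : ℤ) :
    CohB1.tensorMod ((Scheme.Modules.pushforward φ).obj (Coh.structureModule X)) (Twist.twistProjSpace n R a) ≅
      (Scheme.Modules.pushforward φ).obj ((Scheme.Modules.pullback φ).obj (Twist.twistProjSpace n R a)) :=
  Groth.Agent.Ega2.Tens.swap _ _ ≪≫ Groth.Agent.VarietyB.ProjForm.projIsoUnit φ
    (Groth.Agent.VarietyB.ExactLoc.hasBasis_of_isFinLocFreeOfRank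
      (Groth.Agent.Ega2.QCohLocal.isFinLocFreeOfRank_one_iff.mpr (Groth.Agent.VarietyB.TwistQCoh.isInvertible_twistProjSpace n R a)))

theorem isQCoh_push (φ : X ⟶ CohB1.ProjSpace n R) [IsAffineHom φ] {M : X.Modules} (hM : Coh.IsQCoh M) :
    Coh.IsQCoh ((Scheme.Modules.pushforward φ).obj M) :=
  Groth.Agent.CohqA.AffPush.isQCoh_push φ M hM

theorem subsingleton_of_iso {X : Scheme.{u}} {M N : X.Modules} (e : M ≅ N) (q : ℕ)
    (h : Subsingleton (Coh.HH X N q)) : Subsingleton (Coh.HH X M q) := by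
  have h1 : ∀ x : Coh.HH X M q, Groth.Agent.CohqB.HSeqMod.hmap e.inv q (Groth.Agent.CohqB.HSeqMod.hmap e.hom q x) = x := by
    intro x
    rw [← Groth.Agent.CohqB.HSeqMod.hmap_comp_apply, e.hom_inv_id, Groth.Agent.CohqB.HSeqMod.hmap_id_apply]
  exact ⟨fun x y => by rw [← h1 x, ← h1 y, Subsingleton.elim (Groth.Agent.CohqB.HSeqMod.hmap e.hom q x) 
    (Groth.Agent.CohqB.HSeqMod.hmap e.hom q y)]⟩

/-- the direct image of `O_X` is `1`-regular -/
theorem reg (φ : X ⟶ CohB1.ProjSpace n R) [IsAffineHom φ]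
    (hvan : ∀ (M : X.Modules), Coh.IsCoh M → ∀ q, 2 ≤ q → Subsingleton (Coh.HH X M q))
    (h1 : Subsingleton (Coh.HH X (Coh.structureModule X) 1)) :
    Groth.Agent.Sga67.CMReg.Reg ((Scheme.Modules.pushforward φ).obj (Coh.structureModule X)) 1 := by
  have key : ∀ (M : X.Modules) (q : ℕ), Coh.IsQCoh M → Subsingleton (Coh.HH X M q) →
      Subsingleton (Coh.HH (CohB1.ProjSpace n R) ((Scheme.Modules.pushforward φ).obj M) q) := by
    intro M q hM h
    obtain ⟨e⟩ := Groth.Agent.S0012.result φ M q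
    exact e.symm.toEquiv.subsingleton
  intro q hq hqn
  rcases Nat.lt_or_ge 1 q with h2 | h2
  · have hI : PicF.IsInvertible ((Scheme.Modules.pullback φ).obj (Twist.twistProjSpace n R (1 - q))) :=
      Groth.Agent.Fdesc.LocGen.isInvertible_pullback φ (Groth.Agent.VarietyB.TwistQCoh.isInvertible_twistProjSpace n R (1 - q))
    have hM := Groth.Agent.S2329.isCoh_of_isInvertible hI
    have h3 := key _ q hM.1 (hvan _ hM q h2)
    exact subsingleton_of_iso (twistIso φ (1 - q)) q h3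
  · obtain rfl : q = 1 := by omega
    have h3 := key _ 1 (Groth.Agent.PerfA.QCohSerre.isQCoh_unit X) h1
    have e : (1 : ℤ) - ((1 : ℕ) : ℤ) = 0 := by norm_num
    rw [e]
    exact subsingleton_of_iso (Groth.Agent.Sga67.CMReg.zeroIso _) 1 h3

theorem app_smul_res {Y : Scheme.{u}} {M N : Y.Modules} (β : M ⟶ N) {U : Y.Opens} (t : Γ(M, ⊤)) :
    β.app U (Groth.Agent.Ega4dA.GenSec.res M (le_top : U ≤ ⊤) t) =
      N.presheaf.map (homOfLE (le_top : U ≤ ⊤)).op (β.app ⊤ t) :=
  congr($(β.mapPresheaf.naturality (homOfLE (le_top : U ≤ ⊤)).op) t)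

/-- Functions on the preimages of the standard opens come from projective space when the direct image of `O_X` is
`1`-regular and the coordinates span `Γ(X, φ^* O(1))`. -/
theorem app_surjective_of_reg {g : X ⟶ Spec (CommRingCat.of R)} {φ : X ⟶ CohB1.ProjSpace n R} [IsAffineHom φ]
    (hreg : Groth.Agent.Sga67.CMReg.Reg ((Scheme.Modules.pushforward φ).obj (Coh.structureModule X)) 1)
    {L : X.Modules} (e : (Scheme.Modules.pullback φ).obj (Twist.twistProjSpace n R 1) ≅ L)
    {s : Fin (n + 1) → (Coh.structureModule X ⟶ L)} (hcomp : φ ≫ CohB1.ProjSpace.toSpec n R = g)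
    (hpre : ∀ i, φ ⁻¹ᵁ Dp n R i = CohB1.genLocus L (s i))
    (hrel : ∀ i j, φ.app (Dp n R i) (ratio n R i j) • sec (s i) (φ ⁻¹ᵁ Dp n R i) = sec (s j) (φ ⁻¹ᵁ Dp n R i))
    (hs : ∀ t : Γ(L, ⊤), ∃ c : Fin (n + 1) → R, t = ∑ j, struct g ⊤ (c j) • sec (s j) ⊤) (i : Fin (n + 1)) :
    Function.Surjective (φ.app (Dp n R i)) := by
  intro f
  have hF : Coh.IsQCoh ((Scheme.Modules.pushforward φ).obj (Coh.structureModule X)) :=
    isQCoh_push φ (Groth.Agent.PerfA.QCohSerre.isQCoh_unit X)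
  let β : CohB1.tensorMod ((Scheme.Modules.pushforward φ).obj (Coh.structureModule X)) (Twist.twistProjSpace n R 1) ≅
      (Scheme.Modules.pushforward φ).obj L := twistIso φ 1 ≪≫ (Scheme.Modules.pushforward φ).mapIso e
  have h1 := Groth.Agent.Sga67.CMReg.span_eq_top hF hreg 1 le_rfl i
  let N : (CohB1.ProjSpace n R).Modules := (Scheme.Modules.pushforward φ).obj L
  let σ : Γ(N, Dp n R i) := sec (s i) (φ ⁻¹ᵁ Dp n R i)
  have h2 : Submodule.span Γ(CohB1.ProjSpace n R, Dp n R i)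
      (Set.range (Groth.Agent.Ega4dA.GenSec.res (CohB1.tensorMod ((Scheme.Modules.pushforward φ).obj
        (Coh.structureModule X)) (Twist.twistProjSpace n R 1)) (le_top : Dp n R i ≤ ⊤))) ≤
      (Submodule.span Γ(CohB1.ProjSpace n R, Dp n R i) {σ}).comap
        (Groth.Agent.Fga.TwistGr.appL β.hom (Dp n R i)) := by
    rw [Submodule.span_le]
    rintro _ ⟨t, rfl⟩
    rw [SetLike.mem_coe, Submodule.mem_comap]
    change β.hom.app (Dp n R i) (Groth.Agent.Ega4dA.GenSec.res _ (le_top : Dp n R i ≤ ⊤) t) ∈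
      Submodule.span Γ(CohB1.ProjSpace n R, Dp n R i) {σ}
    rw [app_smul_res]
    obtain ⟨c, hc⟩ := hs (show Γ(L, ⊤) from β.hom.app ⊤ t)
    have h3 : N.presheaf.map (homOfLE (le_top : Dp n R i ≤ ⊤)).op (β.hom.app ⊤ t) =
        (∑ j, struct (CohB1.ProjSpace.toSpec n R) (Dp n R i) (c j) * ratio n R i j :
          Γ(CohB1.ProjSpace n R, Dp n R i)) • σ := by
      have h4 := congrArg (L.presheaf.map (homOfLE (le_top : φ ⁻¹ᵁ Dp n R i ≤ ⊤)).op) hc
      refine Eq.trans (?_ : _ = L.presheaf.map (homOfLE (le_top : φ ⁻¹ᵁ Dp n R i ≤ ⊤)).op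
        (∑ j, struct g ⊤ (c j) • sec (s j) ⊤)) ?_
      · exact h4
      · change _ = φ.app (Dp n R i) (∑ j, struct (CohB1.ProjSpace.toSpec n R) (Dp n R i) (c j) * ratio n R i j) •
          sec (s i) (φ ⁻¹ᵁ Dp n R i)
        rw [map_sum, map_sum, Finset.sum_smul]
        refine Finset.sum_congr rfl fun j _ => ?_
        rw [map_mul, mul_smul, hrel, app_struct, hcomp, map_smul_section, map_struct, map_sec]
    rw [h3]
    exact Submodule.smul_mem _ _ (Submodule.mem_span_singleton_self _)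
  let ξ : Γ(N, Dp n R i) := (show Γ(L, φ ⁻¹ᵁ Dp n R i) from f • sec (s i) (φ ⁻¹ᵁ Dp n R i))
  have h3 : β.inv.app (Dp n R i) ξ ∈ Submodule.span Γ(CohB1.ProjSpace n R, Dp n R i)
      (Set.range (Groth.Agent.Ega4dA.GenSec.res (CohB1.tensorMod ((Scheme.Modules.pushforward φ).obj
        (Coh.structureModule X)) (Twist.twistProjSpace n R 1)) (le_top : Dp n R i ≤ ⊤))) := by
    exact h1.symm ▸ (Submodule.mem_top : β.inv.app (Dp n R i) ξ ∈ (⊤ : Submodule Γ(CohB1.ProjSpace n R, Dp n R i) _))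
  have h4 : β.hom.app (Dp n R i) (β.inv.app (Dp n R i) ξ) ∈
      Submodule.span Γ(CohB1.ProjSpace n R, Dp n R i) {σ} := h2 h3
  have h5 : β.hom.app (Dp n R i) (β.inv.app (Dp n R i) ξ) = ξ := by
    have := congrArg (fun ψ : N ⟶ N => ψ.app (Dp n R i) ξ) β.inv_hom_id
    exact this
  rw [h5] at h4
  obtain ⟨b, hb⟩ := Submodule.mem_span_singleton.1 h4
  refine ⟨b, ?_⟩
  have he : IsGen L (φ ⁻¹ᵁ Dp n R i) (sec (s i) (φ ⁻¹ᵁ Dp n R i)) := by
    rw [hpre i]
    exact isGen_genLocus (s i)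
  exact he.injective hb

/-- **Very ampleness over a Noetherian ring**. -/
theorem exists_closedImmersion (A : Type u) [CommRing A] [IsNoetherianRing A] {X : Scheme.{u}}
    (g : X ⟶ Spec (CommRingCat.of A)) [IsProper g]
    (hvan : ∀ (M : X.Modules), Coh.IsCoh M → ∀ q, 2 ≤ q → Subsingleton (Coh.HH X M q))
    (h1 : Subsingleton (Coh.HH X (Coh.structureModule X) 1))
    {L : X.Modules} (hA : CohB1.IsAmple L) (hg : Curv2.IsGloballyGenerated L) :
    ∃ (n : ℕ) (i : X ⟶ CohB1.ProjSpace n A), IsClosedImmersion i ∧ i ≫ CohB1.ProjSpace.toSpec n A = g ∧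
      Nonempty ((Scheme.Modules.pullback i).obj (Twist.twistProjSpace n A 1) ≅ L) := by
  let o : X.Over (Spec (CommRingCat.of A)) := ⟨g⟩
  have hp : IsProper (X ↘ Spec (CommRingCat.of A)) := ‹IsProper g›
  have hf : Module.Finite A (Coh.HH X L 0) :=
    S0002.result A X L (Groth.Agent.S2329.isCoh_of_isInvertible hA.1) 0
  let m := CurvesB.HZero.moduleΓ (X := X) A L
  have h2 : Module.Finite A Γ(L, ⊤) := Module.Finite.equiv (CurvesB.HZero.equivLin A L)
  obtain ⟨n, σ, hσ⟩ := Submodule.fg_iff_exists_fin_generating_family.1 h2.1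
  let s : Fin (n + 1) → (Coh.structureModule X ⟶ L) := fun j => ofSec ((Fin.cons 0 σ : Fin (n + 1) → Γ(L, ⊤)) j)
  have hs : ∀ t : Γ(L, ⊤), ∃ c : Fin (n + 1) → A, t = ∑ j, struct g ⊤ (c j) • sec (s j) ⊤ := by
    intro t
    have h3 : t ∈ Submodule.span A (Set.range σ) := by rw [hσ]; trivial
    obtain ⟨c, hc⟩ := (Submodule.mem_span_range_iff_exists_fun A).1 h3
    refine ⟨Fin.cons 0 c, ?_⟩
    rw [Fin.sum_univ_succ]
    simp only [Fin.cons_zero, Fin.cons_succ, map_zero, zero_smul, zero_add]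
    rw [← hc]
    refine Finset.sum_congr rfl fun j _ => ?_
    have h4 : sec (s j.succ) ⊤ = σ j := by
      change sec (ofSec _) ⊤ = _
      rw [sec_ofSec]
      simp only [Fin.cons_succ]
      exact map_self_section L _ _
    have h5 : struct g ⊤ (c j) = Coh.toGlobal g (c j) := map_self_function (X := X) (le_refl ⊤) _
    rw [h4, h5]
    rfl
  have hcov := iSup_genLocus_eq_top g hA.1 hg s hs
  obtain ⟨φ, hφ, hcomp, hpre, hrel, e, -⟩ := exists_morphism g L s hcov
  have hprop : IsProper φ := by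
    have : IsProper (φ ≫ CohB1.ProjSpace.toSpec n A) := hcomp ▸ inferInstance
    exact IsProper.of_comp φ (CohB1.ProjSpace.toSpec n A)
  have hXs : X.IsSeparated := ⟨by
    rw [← terminal.comp_from g]
    infer_instance⟩
  have hPs : (CohB1.ProjSpace n A).IsSeparated := ⟨by
    rw [← terminal.comp_from (CohB1.ProjSpace.toSpec n A)]
    infer_instance⟩
  have hfin : IsFinite φ := Groth.Agent.Sga5.AmpleFib.isFinite_of_isAmple_pullback
    (fun Z _ _ h => (Groth.Agent.S2336.result Z).2 h) φ (Groth.Agent.VarietyB.TwistQCoh.isInvertible_twistProjSpace n A 1)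
    (Groth.Agent.S2329.isAmple_of_iso e.symm hA)
  have hreg := reg φ hvan h1
  refine ⟨n, φ, ?_, hcomp, ⟨e⟩⟩
  exact isClosedImmersion_of_cover φ (Dp n A) (iSup_Dp n A) (isAffineOpen_Dp n A)
    (fun i => (isAffineOpen_Dp n A i).preimage φ) (app_surjective_of_reg hreg e hcomp hpre hrel hs)

end K335.VeryAmpleA
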